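import Cfsg.Agent.Lib.OEightThree.Defs

/-!
Kernel checks on the representatives.
-/

set_option autoImplicit false
set_option Elab.async false
set_option maxRecDepth 100000

namespace CfsgLib.OEightThree

open CfsgLib.CosetEnum

theorem count_ok0_0 : Nat.beq (fixCount (repW 0) 0) (cntOf 0 0) = true := by decide +kernel

theorem count_ok0_1 : Nat.beq (fixCount (repW 0) 1) (cntOf 0 1) = true := by decide +kernel

theorem count_ok0_2 : Nat.beq (fixCount (repW 0) 2) (cntOf 0 2) = true := by decide +kernel

theorem count_ok1_0 : Nat.beq (fixCount (repW 1) 0) (cntOf 1 0) = true := by decide +kernel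

theorem count_ok1_1 : Nat.beq (fixCount (repW 1) 1) (cntOf 1 1) = true := by decide +kernel

theorem count_ok1_2 : Nat.beq (fixCount (repW 1) 2) (cntOf 1 2) = true := by decide +kernel

theorem count_ok2_0 : Nat.beq (fixCount (repW 2) 0) (cntOf 2 0) = true := by decide +kernel

theorem count_ok2_1 : Nat.beq (fixCount (repW 2) 1) (cntOf 2 1) = true := by decide +kernel

theorem count_ok2_2 : Nat.beq (fixCount (repW 2) 2) (cntOf 2 2) = true := by decide +kernel

end CfsgLib.OEightThree
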