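import Cfsg.Agent.Lib.OEightThree.Defs

/-!
Kernel checks on the representatives.
-/

set_option autoImplicit false
set_option Elab.async false
set_option maxRecDepth 100000

namespace CfsgLib.OEightThree

open CfsgLib.CosetEnum

theorem count_ok3_0 : Nat.beq (fixCount (repW 3) 0) (cntOf 3 0) = true := by decide +kernel

theorem count_ok3_1 : Nat.beq (fixCount (repW 3) 1) (cntOf 3 1) = true := by decide +kernel

theorem count_ok3_2 : Nat.beq (fixCount (repW 3) 2) (cntOf 3 2) = true := by decide +kernel

theorem count_ok4_0 : Nat.beq (fixCount (repW 4) 0) (cntOf 4 0) = true := by decide +kernel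

theorem count_ok4_1 : Nat.beq (fixCount (repW 4) 1) (cntOf 4 1) = true := by decide +kernel

theorem count_ok4_2 : Nat.beq (fixCount (repW 4) 2) (cntOf 4 2) = true := by decide +kernel

theorem count_ok5_0 : Nat.beq (fixCount (repW 5) 0) (cntOf 5 0) = true := by decide +kernel

theorem count_ok5_1 : Nat.beq (fixCount (repW 5) 1) (cntOf 5 1) = true := by decide +kernel

theorem count_ok5_2 : Nat.beq (fixCount (repW 5) 2) (cntOf 5 2) = true := by decide +kernel

theorem count_ok6_0 : Nat.beq (fixCount (repW 6) 0) (cntOf 6 0) = true := by decide +kernel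

theorem count_ok6_1 : Nat.beq (fixCount (repW 6) 1) (cntOf 6 1) = true := by decide +kernel

theorem count_ok6_2 : Nat.beq (fixCount (repW 6) 2) (cntOf 6 2) = true := by decide +kernel

end CfsgLib.OEightThree
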