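import Cfsg.Agent.Lib.OEightThree.Defs

/-!
Kernel checks on the unipotent generators.
-/

set_option autoImplicit false
set_option Elab.async false
set_option maxRecDepth 100000

namespace CfsgLib.OEightThree

open CfsgLib.CosetEnum

theorem line_ok0 : (List.range 1080).all (uLineOK 0) = true := by decide +kernel

theorem line_ok1 : (List.range 1080).all (uLineOK 1) = true := by decide +kernel

theorem line_ok2 : (List.range 1080).all (uLineOK 2) = true := by decide +kernel

theorem line_ok3 : (List.range 1080).all (uLineOK 3) = true := by decide +kernel

theorem line_ok4 : (List.range 1080).all (uLineOK 4) = true := by decide +kernel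

theorem line_ok5 : (List.range 1080).all (uLineOK 5) = true := by decide +kernel

theorem line_ok6 : (List.range 1080).all (uLineOK 6) = true := by decide +kernel

theorem line_ok7 : (List.range 1080).all (uLineOK 7) = true := by decide +kernel

theorem line_ok8 : (List.range 1080).all (uLineOK 8) = true := by decide +kernel

end CfsgLib.OEightThree
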