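import Cfsg.Agent.Lib.OEightThree.Defs

/-!
Kernel checks on the unipotent generators.
-/

set_option autoImplicit false
set_option Elab.async false
set_option maxRecDepth 100000

namespace CfsgLib.OEightThree

open CfsgLib.CosetEnum

theorem line_ok9 : (List.range 1080).all (uLineOK 9) = true := by decide +kernel

theorem line_ok10 : (List.range 1080).all (uLineOK 10) = true := by decide +kernel

theorem line_ok11 : (List.range 1080).all (uLineOK 11) = true := by decide +kernel

theorem line_ok12 : (List.range 1080).all (uLineOK 12) = true := by decide +kernel

theorem line_ok13 : (List.range 1080).all (uLineOK 13) = true := by decide +kernel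

theorem line_ok14 : (List.range 1080).all (uLineOK 14) = true := by decide +kernel

theorem line_ok15 : (List.range 1080).all (uLineOK 15) = true := by decide +kernel

theorem line_ok16 : (List.range 1080).all (uLineOK 16) = true := by decide +kernel

theorem line_ok17 : (List.range 1080).all (uLineOK 17) = true := by decide +kernel

end CfsgLib.OEightThree
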