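import Cfsg.Agent.Lib.OEightThree.Defs

/-!
Kernel checks on the three orbits.
-/

set_option autoImplicit false
set_option Elab.async false
set_option maxRecDepth 100000

namespace CfsgLib.OEightThree

open CfsgLib.CosetEnum

theorem trio_ok0 : (List.range 3240).all (trioOK 0) = true := by decide +kernel

theorem trio_ok1 : (List.range 3240).all (trioOK 1) = true := by decide +kernel

theorem trio_ok2 : (List.range 3240).all (trioOK 2) = true := by decide +kernel

theorem trio_ok3 : (List.range 3240).all (trioOK 3) = true := by decide +kernel

theorem trio_ok4 : (List.range 3240).all (trioOK 4) = true := by decide +kernel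

theorem trio_ok5 : (List.range 3240).all (trioOK 5) = true := by decide +kernel

theorem trio_ok6 : (List.range 3240).all (trioOK 6) = true := by decide +kernel

theorem trio_ok7 : (List.range 3240).all (trioOK 7) = true := by decide +kernel

theorem trio_ok8 : (List.range 3240).all (trioOK 8) = true := by decide +kernel

theorem trio_ok9 : (List.range 3240).all (trioOK 9) = true := by decide +kernel

theorem trio_set : trioSetOK = true := by decide +kernel

theorem trio_zero : ((List.range 1080).all fun i => Nat.beq (Fi23OEight.at32 trio i) (Fi23OEight.at32 Fi23OEight.orbPts i)) = true := by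
  decide +kernel

theorem trio_tree : (List.range 3240).all treeOK = true := by decide +kernel

theorem base_ok : ((List.range 9).all fun k => Nat.beq (Fi23OEight.at32 trio (baseIdx.getD k 1080))
    ([8006, 8005, 8003, 8002, 8001, 8000, 8004, 8007, 7999].getD k 0)) && baseIdx.all (fun b => Nat.blt b 1080) = true := by
  decide +kernel

end CfsgLib.OEightThree
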