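import Cfsg.Agent.Lib.OEightThree.Defs

/-!
Kernel checks on the unipotent group and its fusion.
-/

set_option autoImplicit false
set_option Elab.async false
set_option maxRecDepth 100000

namespace CfsgLib.OEightThree

open CfsgLib.CosetEnum

theorem rep_ok : (List.range 7).all repOK = true := by decide +kernel

theorem merge_ok : mergeRec.all mergeOK = true := by decide +kernel

theorem u_shape : (List.range 18).all uShape = true := by decide +kernel

theorem cube_ok : (List.range 18).all cubeOK = true := by decide +kernel

theorem pc_ok : (List.range 12).all pcOK = true := by decide +kernel

theorem orbit_ok : (List.range 12).all orbitOK = true := by decide +kernel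

theorem v_ok : (List.range 18).all vOK = true := by decide +kernel

theorem ab_ok : abOK = true := by decide +kernel

theorem fus_ok : (List.range 729).all fusOK = true := by decide +kernel

theorem leaf_ok0 : (List.range 729).all (leafOK 0) = true := by decide +kernel

theorem leaf_ok1 : (List.range 729).all (leafOK 1) = true := by decide +kernel

theorem leaf_ok2 : (List.range 729).all (leafOK 2) = true := by decide +kernel

theorem leaf_ok3 : (List.range 729).all (leafOK 3) = true := by decide +kernel

theorem leaf_ok4 : (List.range 729).all (leafOK 4) = true := by decide +kernel

end CfsgLib.OEightThree
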