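import Cfsg.Agent.Lib.OEightThree.Unip
import Cfsg.Agent.Lib.OEightThree.CheckCount0
import Cfsg.Agent.Lib.OEightThree.CheckCount1
import Cfsg.Agent.Lib.OmegaSeven.Main

/-!
The classes of subgroups of order three in the orthogonal group and under its extension by the symmetric group of
degree three.
-/

set_option autoImplicit false
set_option maxRecDepth 100000

namespace CfsgLib.OEightThree

open CfsgLib.CosetEnum CfsgLib.Fi23Pres CfsgLib CfsgLib.Fi23OEight Cfsg.Spor
open CfsgLib.Fi23Inv (tr)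
open CfsgLib.Fi23Cent (env)

/-- a conjugate lies in the cyclic group of the second element -/
def Fuses (x y : Fi23) (h : Fi23) : Prop := h * x * h⁻¹ ∈ Subgroup.zpowers y

theorem three_powers {M : Type*} [Group M] {y z : M} (hy : y ^ 3 = 1) (hz : z ∈ Subgroup.zpowers y) (hne : z ≠ 1) :
    z = y ∨ z = y⁻¹ := by
  obtain ⟨n, rfl⟩ := Subgroup.mem_zpowers_iff.mp hz
  have hinv : y⁻¹ = y ^ (2 : ℤ) :=
    inv_eq_of_mul_eq_one_right (by rw [zpow_ofNat, ← pow_succ']; exact hy)
  rw [zpow_eq_zpow_emod' n hy] at hne ⊢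
  have : n % ((3 : ℕ) : ℤ) = 0 ∨ n % ((3 : ℕ) : ℤ) = 1 ∨ n % ((3 : ℕ) : ℤ) = 2 := by omega
  rcases this with h | h | h <;> rw [h] at hne ⊢
  · exact absurd (zpow_zero y) hne
  · exact Or.inl (zpow_one y)
  · exact Or.inr hinv.symm

theorem fuses_trans {x y z g h : Fi23} (h1 : Fuses x y g) (h2 : Fuses y z h) : Fuses x z (h * g) := by
  obtain ⟨n, hn⟩ := Subgroup.mem_zpowers_iff.mp h1
  have := zpow_mem h2 n
  rw [conj_zpow, hn] at this
  simpa [Fuses, mul_assoc] using this

theorem fuses_conj {x y g : Fi23} (u : Fi23) (h : Fuses x y g) :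
    Fuses (u * x * u⁻¹) (u * y * u⁻¹) (u * g * u⁻¹) := by
  obtain ⟨n, hn⟩ := Subgroup.mem_zpowers_iff.mp h
  refine Subgroup.mem_zpowers_iff.mpr ⟨n, ?_⟩
  rw [conj_zpow, hn]
  group

/-- the segment of a point -/
def seg (i : Fin 3240) : Fin 3 := ⟨i.1 / 1080, by omega⟩

/-- the segment of an image under a word -/
def wordSeg (w : List ℕ) (a : ℕ) : ℕ := w.foldr segImg a

theorem seg_word : ∀ {w : List ℕ}, (∀ k ∈ w, k < 10) → ∀ {i : ℕ}, i < 3240 →
    move (prodW tenGen w) i / 1080 = wordSeg w (i / 1080)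
  | [], _, i, _ => by rw [prodW_nil, move_one]; rfl
  | a :: w, h, i, hi => by
    obtain ⟨ha, hw⟩ := List.forall_mem_cons.mp h
    rw [prodW_cons, move_mul (tenGen_mem a) (word_tri w) hi, (move_ten ha (move_lt hi)).1,
      (move_ten ha (move_lt hi)).2, seg_word hw hi]
    rfl

theorem seg_even {x : Fi23} (hx : x ∈ subEven) : ∀ {i : ℕ}, i < 3240 → move x i / 1080 = i / 1080 := by
  induction hx using Subgroup.closure_induction with
  | mem y hy =>
    obtain ⟨k, hk, rfl⟩ := hy
    intro i hi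
    have e : gen 1 * gen (k + 1) = prodW tenGen [0, k] := by
      simp [prodW_cons, prodW_nil, tenGen, hk]
    rw [e, seg_word (by simp; omega) hi]
    have : i / 1080 = 0 ∨ i / 1080 = 1 ∨ i / 1080 = 2 := by omega
    rcases this with h | h | h <;>
      simp [wordSeg, segImg, h, show Nat.blt 0 9 = true from rfl,
        show Nat.blt k 9 = true by rw [Nat.blt_eq]; exact hk]
  | one => intro i _; rw [move_one]
  | mul a b ha hb iha ihb =>
    intro i hi
    rw [move_mul (even_le_tri ha) (even_le_tri hb) hi, iha (move_lt hi), ihb hi]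
  | inv a ha iha =>
    intro i hi
    have ha' := even_le_tri ha
    have h := iha (move_lt (x := a⁻¹) hi)
    rw [← move_mul ha' (inv_mem ha') hi, mul_inv_cancel, move_one] at h
    exact h.symm

theorem seg_perm {g : Fi23} (hg : g ∈ subTri) :
    ∃ σ : Equiv.Perm (Fin 3), ∀ i : Fin 3240, seg (triRho ⟨g, hg⟩ i) = σ (seg i) := by
  have key : ∀ x : ↥subTri, x ∈ Subgroup.closure {x : ↥subTri | ∃ k < 10, tenGen k = (x : Fi23)} →
      ∃ σ : Equiv.Perm (Fin 3), ∀ i : Fin 3240, seg (triRho x i) = σ (seg i) := by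
    intro x hx
    induction hx using Subgroup.closure_induction with
    | mem y hy =>
      obtain ⟨k, hk, e⟩ := hy
      refine ⟨if k < 9 then Equiv.swap 1 2 else Equiv.swap 0 2, fun i => Fin.ext ?_⟩
      have h := move_ten hk i.2
      rw [e, move_def y.2 i] at h
      show (triRho y i : ℕ) / 1080 = _
      rw [h.1, h.2]
      have hval : ∀ a : Fin 3, segImg k a = (((if k < 9 then Equiv.swap 1 2 else Equiv.swap 0 2) a : Fin 3) : ℕ) := by
        intro a
        by_cases hlt : k < 9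
        · rw [if_pos hlt]
          simp only [segImg, show Nat.blt k 9 = true by rw [Nat.blt_eq]; exact hlt, cond_true]
          revert a; decide
        · rw [if_neg hlt]
          simp only [segImg, show Nat.blt k 9 = false by rw [Bool.eq_false_iff, Ne, Nat.blt_eq]; exact hlt,
            cond_false]
          revert a; decide
      exact hval (seg i)
    | one => exact ⟨1, fun i => by rw [map_one]; rfl⟩
    | mul a b _ _ iha ihb =>
      obtain ⟨σ, hσ⟩ := iha
      obtain ⟨τ, hτ⟩ := ihb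
      exact ⟨σ * τ, fun i => by rw [map_mul, Equiv.Perm.mul_apply, hσ, hτ]; rfl⟩
    | inv a _ iha =>
      obtain ⟨σ, hσ⟩ := iha
      refine ⟨σ⁻¹, fun i => ?_⟩
      rw [eq_comm, Equiv.Perm.inv_eq_iff_eq, ← hσ, map_inv, ← Equiv.Perm.mul_apply, mul_inv_cancel]
      rfl
  exact key ⟨g, hg⟩ (ten_closure ▸ Subgroup.mem_top _)

/-- the number of fixed points in a segment -/
noncomputable def cnt (x : Fi23) (a : Fin 3) : ℕ :=
  Nat.card {i : Fin 3240 // seg i = a ∧ move x i = (i : ℕ)}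

theorem cnt_conj {g x : Fi23} (hg : g ∈ subTri) (hx : x ∈ subTri) {σ : Equiv.Perm (Fin 3)}
    (hσ : ∀ i, seg (triRho ⟨g, hg⟩ i) = σ (seg i)) (a : Fin 3) : cnt (g * x * g⁻¹) (σ a) = cnt x a := by
  refine (Nat.card_congr (Equiv.subtypeEquiv (triRho ⟨g, hg⟩) fun i => ?_)).symm
  rw [hσ, σ.injective.eq_iff, ← move_def hg i]
  refine and_congr_right fun _ => ?_
  rw [← move_mul (mul_mem (mul_mem hg hx) (inv_mem hg)) hg i.2, inv_mul_cancel_right, move_mul hg hx i.2]
  exact ⟨fun h => by rw [h], fun h => move_inj hg (move_lt i.2) i.2 h⟩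

theorem cnt_inv {x : Fi23} (hx : x ∈ subTri) (a : Fin 3) : cnt x⁻¹ a = cnt x a := by
  refine Nat.card_congr (Equiv.subtypeEquivRight fun i => and_congr_right fun _ => ?_)
  constructor <;> intro h
  · have := move_inv (x := x⁻¹) (inv_mem hx) i.2
    rwa [inv_inv, h] at this
  · have := move_inv hx i.2
    rwa [h] at this

theorem cnt_word {w : List ℕ} (hw : ∀ k ∈ w, k < 10) (a : Fin 3) :
    cnt (prodW tenGen w) a = fixCount w a := by
  classical
  have e : {i : Fin 3240 // seg i = a ∧ move (prodW tenGen w) i = (i : ℕ)} ≃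
      {j : Fin 1080 // wordAt w (1080 * a + j) = 1080 * a + j} :=
    { toFun := fun i => ⟨⟨i.1.1 % 1080, Nat.mod_lt _ (by norm_num)⟩, by
        have h1 : i.1.1 / 1080 = a.1 := congrArg Fin.val i.2.1
        have h2 := i.2.2
        rw [move_word hw i.1.2] at h2
        show wordAt w (1080 * a.1 + i.1.1 % 1080) = 1080 * a.1 + i.1.1 % 1080
        rwa [← h1, Nat.div_add_mod]⟩
      invFun := fun j => ⟨⟨1080 * a.1 + j.1.1, by have := a.2; have := j.1.2; omega⟩,
        Fin.ext (by show (1080 * a.1 + j.1.1) / 1080 = a.1; have := j.1.2; omega), by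
        rw [move_word hw (by have := a.2; have := j.1.2; omega)]
        exact j.2⟩
      left_inv := fun i => Subtype.ext (Fin.ext (by
        have h1 : i.1.1 / 1080 = a.1 := congrArg Fin.val i.2.1
        show 1080 * a.1 + i.1.1 % 1080 = i.1.1
        omega))
      right_inv := fun j => Subtype.ext (Fin.ext (by
        show (1080 * a.1 + j.1.1) % 1080 = j.1.1
        have := j.1.2; omega)) }
  rw [cnt, Nat.card_congr e, fixCount, List.countP_eq_length_filter]
  rw [Nat.card_eq_fintype_card, Fintype.card_subtype]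
  rw [← List.toFinset_card_of_nodup (List.nodup_range.filter _)]
  refine Finset.card_bij (fun j _ => (j : ℕ)) (fun j hj => ?_) (fun _ _ _ _ h => Fin.ext h) fun n hn => ?_
  · rw [Finset.mem_filter] at hj
    rw [List.mem_toFinset, List.mem_filter, strict_eq]
    exact ⟨List.mem_range.mpr j.2, by rw [hj.2]; exact Nat.beq_refl _⟩
  · rw [List.mem_toFinset, List.mem_filter, strict_eq] at hn
    exact ⟨⟨n, List.mem_range.mp hn.1⟩, Finset.mem_filter.mpr ⟨Finset.mem_univ _, Nat.eq_of_beq_eq_true hn.2⟩, rfl⟩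

/-- a representative -/
noncomputable def rEl (b : ℕ) : Fi23 := prodW tenGen (repW b)

/-- a shift to a segment -/
noncomputable def uG (a : ℕ) : Fi23 := prodW tenGen (uLetters a)

theorem rep_word {b : ℕ} (hb : b < 7) : (repW b).length % 2 = 0 ∧ (∀ k ∈ repW b, k < 9) ∧
    wordAt (repW b) 0 = 0 ∧ ∀ x ∈ baseIdx, wordAt (repW b ++ repW b ++ repW b) x = x := by
  have h := List.all_eq_true.mp rep_ok b (List.mem_range.mpr hb)
  simp only [repOK, Bool.and_eq_true, List.all_eq_true, Nat.blt_eq] at h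
  exact ⟨Nat.eq_of_beq_eq_true h.1.1.1, h.1.1.2, Nat.eq_of_beq_eq_true h.1.2,
    fun x hx => Nat.eq_of_beq_eq_true (h.2 x hx)⟩

theorem rEl_even {b : ℕ} (hb : b < 7) : rEl b ∈ subEven := word_even (rep_word hb).1 (rep_word hb).2.1

theorem rEl_cnt {b : ℕ} (hb : b < 7) (a : Fin 3) : cnt (rEl b) a = cntOf b a := by
  rw [rEl, cnt_word (fun k hk => by have := (rep_word hb).2.1 k hk; omega)]
  have hall : ∀ (b : Fin 7) (a : Fin 3), Nat.beq (fixCount (repW b) a) (cntOf b a) = true := fun b a =>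
    match b, a with
    | ⟨0, _⟩, ⟨0, _⟩ => count_ok0_0
    | ⟨0, _⟩, ⟨1, _⟩ => count_ok0_1
    | ⟨0, _⟩, ⟨2, _⟩ => count_ok0_2
    | ⟨1, _⟩, ⟨0, _⟩ => count_ok1_0
    | ⟨1, _⟩, ⟨1, _⟩ => count_ok1_1
    | ⟨1, _⟩, ⟨2, _⟩ => count_ok1_2
    | ⟨2, _⟩, ⟨0, _⟩ => count_ok2_0
    | ⟨2, _⟩, ⟨1, _⟩ => count_ok2_1
    | ⟨2, _⟩, ⟨2, _⟩ => count_ok2_2
    | ⟨3, _⟩, ⟨0, _⟩ => count_ok3_0
    | ⟨3, _⟩, ⟨1, _⟩ => count_ok3_1
    | ⟨3, _⟩, ⟨2, _⟩ => count_ok3_2
    | ⟨4, _⟩, ⟨0, _⟩ => count_ok4_0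
    | ⟨4, _⟩, ⟨1, _⟩ => count_ok4_1
    | ⟨4, _⟩, ⟨2, _⟩ => count_ok4_2
    | ⟨5, _⟩, ⟨0, _⟩ => count_ok5_0
    | ⟨5, _⟩, ⟨1, _⟩ => count_ok5_1
    | ⟨5, _⟩, ⟨2, _⟩ => count_ok5_2
    | ⟨6, _⟩, ⟨0, _⟩ => count_ok6_0
    | ⟨6, _⟩, ⟨1, _⟩ => count_ok6_1
    | ⟨6, _⟩, ⟨2, _⟩ => count_ok6_2
    | ⟨n + 7, h⟩, _ => absurd h (by omega)
    | _, ⟨n + 3, h⟩ => absurd h (by omega)
  exact Nat.eq_of_beq_eq_true (hall ⟨b, hb⟩ a)

theorem rEl_order {b : ℕ} (hb : b < 7) : orderOf (rEl b) = 3 := by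
  have : Fact (Nat.Prime 3) := ⟨Nat.prime_three⟩
  have hw : ∀ k ∈ repW b ++ repW b ++ repW b, k < 10 := fun k hk => by
    simp only [List.mem_append, or_self] at hk
    have := (rep_word hb).2.1 k hk
    omega
  refine orderOf_eq_prime ?_ fun h => ?_
  · have e : rEl b ^ 3 = prodW tenGen (repW b ++ repW b ++ repW b) := by
      rw [prodW_append, prodW_append, pow_succ, pow_two]; rfl
    rw [e]
    refine eq_one_of_base (e ▸ pow_mem (subEven_le (rEl_even hb)) 3) fun x hx => ?_
    rw [move_word hw (by have := base_lt hx; omega)]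
    exact (rep_word hb).2.2.2 x hx
  · have hc : cnt (rEl b) 0 = cntOf b 0 := rEl_cnt hb 0
    have hlt : cntOf b 0 < 1080 := by
      have : ∀ b < 7, cntOf b 0 < 1080 := by decide
      exact this b hb
    rw [h] at hc
    have : cnt 1 0 = 1080 := by
      rw [← prodW_nil tenGen, cnt_word (by simp), fixCount, List.countP_eq_length.mpr, List.length_range]
      intro i _
      rw [strict_eq]
      exact Nat.beq_refl _
    omega

theorem base_word : prodW tenGen (sevenWord.map (fun g => g - 1)) = tr 0 := by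
  rw [← prodW_dWord (show 0 < certA.N by decide +kernel),
    show TransCent.dWord certA zWord 0 = tWord 0 from rfl, ← Fi23Syl.same_eq seven_ok]
  have hmem : ∀ a ∈ sevenWord, 0 < a ∧ a < 9 := by decide +kernel
  simp only [prodW, List.map_map]
  congr 1

theorem first_base : gen 1 * tr 0 ∈ subEven := by
  have hw : prodW tenGen (0 :: sevenWord.map (fun g => g - 1)) ∈ subEven :=
    word_even (by decide +kernel) (by decide +kernel)
  rwa [prodW_cons, base_word, show tenGen 0 = gen 1 from if_pos (by norm_num)] at hw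

theorem seven_le_even : subSeven ≤ subEven := by
  refine (Subgroup.closure_le _).mpr ?_
  rintro y ⟨k, hk, rfl⟩
  rw [twist_eq hk]
  have := mul_mem (inv_mem first_base) (pair_mem (a := 0) (b := k) (by norm_num) (by omega))
  rwa [mul_inv_rev, mul_assoc, ← mul_assoc (gen 1)⁻¹, inv_mul_cancel, one_mul,
    inv_eq_of_mul_eq_one_right base_sq] at this

theorem seven_of_fix {x : Fi23} (hx : x ∈ subEven) (h : move x 0 = 0) : x ∈ subSeven := by
  have hfix : rho x baseCos = baseCos := by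
    have hxt := even_le_tri hx
    have h0 : triRho ⟨x, hxt⟩ ⟨0, by norm_num⟩ = ⟨0, by norm_num⟩ :=
      Fin.ext (by rw [← move_def hxt ⟨0, by norm_num⟩]; exact h)
    have e := triRho_apply ⟨x, hxt⟩ ⟨0, by norm_num⟩
    rw [h0, orbCos_eq (by norm_num)] at e
    exact e.symm
  have h8 : x ∈ subEight := by
    rw [← cent_base]
    refine ⟨even_le_tri hx, Subgroup.mem_centralizer_singleton_iff.mpr ?_⟩
    rw [← tr_base]
    exact ((env.fix_iff x baseCos).mp hfix).eq
  rcases eight_split h8 with h' | h'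
  · exact h'
  · exfalso
    refine subNine_facts.2.2.1 ?_
    have ht : tr 0 ∈ subEven := by
      have := mul_mem (seven_le_even h') (inv_mem hx)
      rwa [mul_inv_cancel_right] at this
    have := mul_mem first_base (inv_mem ht)
    rwa [mul_inv_cancel_right] at this

theorem rEl_seven {b : ℕ} (hb : b < 7) : rEl b ∈ subSeven :=
  seven_of_fix (rEl_even hb) (by
    rw [rEl, move_word (fun k hk => by have := (rep_word hb).2.1 k hk; omega) (by norm_num)]
    exact (rep_word hb).2.2.1)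

theorem cnt_fuses {x y g : Fi23} (hg : g ∈ subTri) (hx : x ∈ subTri) (hy : y ∈ subTri) (hy3 : y ^ 3 = 1)
    (hne : x ≠ 1) (h : Fuses x y g) {σ : Equiv.Perm (Fin 3)} (hσ : ∀ i, seg (triRho ⟨g, hg⟩ i) = σ (seg i))
    (a : Fin 3) : cnt y (σ a) = cnt x a := by
  rw [← cnt_conj hg hx hσ a]
  rcases three_powers hy3 h (fun e => hne (conj_eq_one_iff.mp e)) with e | e <;> rw [e]
  rw [cnt_inv hy]

theorem rEl_separated {b c : ℕ} (hb : b < 7) (hc : c < 7) {g : Fi23} (hg : g ∈ subTri)
    (h : Fuses (rEl b) (rEl c) g) : b = c := by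
  obtain ⟨σ, hσ⟩ := seg_perm hg
  have h1 : ∀ a, cnt (rEl c) (σ a) = cnt (rEl b) a :=
    cnt_fuses hg (even_le_tri (rEl_even hb)) (even_le_tri (rEl_even hc))
      (by rw [← rEl_order hc]; exact pow_orderOf_eq_one _)
      (fun e => by have := rEl_order hb; rw [e, orderOf_one] at this; omega) h hσ
  have h2 := Equiv.sum_comp σ fun a => cnt (rEl c) a ^ 2
  simp only [h1] at h2
  simp only [rEl_cnt hb, rEl_cnt hc] at h2
  have hinj : ∀ b c : Fin 7, ∑ a : Fin 3, cntOf b a ^ 2 = ∑ a : Fin 3, cntOf c a ^ 2 → b = c := by decide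
  exact congrArg Fin.val (hinj ⟨b, hb⟩ ⟨c, hc⟩ h2)

/-- the classes in the stabilizer of a point -/
theorem seven_cover {x : Fi23} (hx : x ∈ subSeven) (ho : orderOf x = 3) :
    ∃ b < 7, ∃ g ∈ subSeven, Fuses x (rEl b) g := by
  classical
  obtain ⟨e⟩ := seven_facts.2
  obtain ⟨Y, -, -, hY⟩ := OmegaSeven.order_three_classes
  have hassign : ∀ z : {z : ↥subSeven // orderOf z = 3}, ∃ i, ∃ g, (Subgroup.zpowers (e z.1)).map
      (MulAut.conj g).toMonoidHom = Y i := fun z =>
    hY _ (by rw [Nat.card_zpowers, MulEquiv.orderOf_eq, z.2])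
  choose f g hfg using hassign
  have hfuse : ∀ z z' : {z : ↥subSeven // orderOf z = 3}, f z = f z' →
      ∃ h : ↥subSeven, Fuses (z.1 : Fi23) (z'.1 : Fi23) (h : Fi23) := by
    intro z z' hf
    refine ⟨(e.symm (g z'))⁻¹ * e.symm (g z), ?_⟩
    have hm : g z * e z.1 * (g z)⁻¹ ∈ Y (f z') := by
      rw [← hf, ← hfg z]
      exact ⟨_, Subgroup.mem_zpowers _, MulAut.conj_apply _ _⟩
    rw [← hfg z'] at hm
    obtain ⟨w, hw, ew⟩ := hm
    obtain ⟨n, rfl⟩ := Subgroup.mem_zpowers_iff.mp hw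
    refine Subgroup.mem_zpowers_iff.mpr ⟨n, ?_⟩
    rw [← Subgroup.coe_inv, ← Subgroup.coe_mul, ← Subgroup.coe_mul, ← Subgroup.coe_zpow]
    congr 1
    apply e.injective
    simp only [MulEquiv.coe_toMonoidHom, MulAut.conj_apply] at ew
    simp only [map_mul, map_inv, map_zpow, MulEquiv.apply_symm_apply]
    calc e z'.1 ^ n = (g z')⁻¹ * (g z' * e z'.1 ^ n * (g z')⁻¹) * g z' := by group
      _ = (g z')⁻¹ * (g z * e z.1 * (g z)⁻¹) * g z' := by rw [ew]
      _ = _ := by group
  let r : Fin 7 → {z : ↥subSeven // orderOf z = 3} := fun b =>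
    ⟨⟨rEl b, rEl_seven b.2⟩, by rw [← Subgroup.orderOf_coe]; exact rEl_order b.2⟩
  have hinj : Function.Injective (f ∘ r) := by
    intro b c h
    obtain ⟨k, hk⟩ := hfuse (r b) (r c) h
    exact Fin.ext (rEl_separated b.2 c.2 (nine_le_tri (subEight_le (seven_le_eight k.2))) hk)
  have z3 : orderOf (⟨x, hx⟩ : ↥subSeven) = 3 := by rw [← Subgroup.orderOf_coe]; exact ho
  obtain ⟨b, hb⟩ := (Finite.injective_iff_surjective.mp hinj) (f ⟨_, z3⟩)
  obtain ⟨k, hk⟩ := hfuse ⟨_, z3⟩ (r b) hb.symm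
  exact ⟨b, b.2, k, k.2, hk⟩

theorem seg_base {a : ℕ} (ha : a < 3) : uG a ∈ subTri ∧ move (uG a) 0 / 1080 = a := by
  refine ⟨word_tri _, ?_⟩
  have hw : ∀ k ∈ uLetters a, k < 10 := by
    have : ∀ a < 3, ∀ k ∈ uLetters a, k < 10 := by decide
    exact this a ha
  rw [uG, seg_word hw (by norm_num)]
  have : ∀ a < 3, wordSeg (uLetters a) (0 / 1080) = a := by decide
  exact this a ha

theorem reach_start : ∀ i : ℕ, i < 3240 → ∃ h ∈ subEven, move h (i / 1080 * 1080) = i := by
  intro i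
  induction i using Nat.strong_induction_on with
  | _ i ih =>
    intro hi
    have h := List.all_eq_true.mp trio_tree i (List.mem_range.mpr hi)
    simp only [treeOK, Bool.or_eq_true, List.any_eq_true, List.mem_range, strict_eq, Bool.and_eq_true,
      Nat.blt_eq] at h
    rcases h with h | ⟨k, hk, h | h⟩
    · exact ⟨1, one_mem _, by rw [move_one]; have := Nat.eq_of_beq_eq_true h; omega⟩
    · obtain ⟨h1, h2⟩ := h
      obtain ⟨g, hg, e⟩ := ih _ h1 (by omega)
      have hp : gen 1 * gen (k + 1) ∈ subEven := Subgroup.subset_closure ⟨k, hk, rfl⟩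
      have hj : move (gen 1 * gen (k + 1)) i = tT 0 (tT k i) := by
        rw [show gen 1 * gen (k + 1) = prodW tenGen [0, k] by simp [prodW_cons, prodW_nil, tenGen, hk],
          move_word (by simp; omega) hi]
        show strict (strict i fun j => tT k j) (fun j => tT 0 j) = _
        rw [strict_eq, strict_eq]
      refine ⟨(gen 1 * gen (k + 1))⁻¹ * g, mul_mem (inv_mem hp) hg, ?_⟩
      rw [Nat.eq_of_beq_eq_true h2] at e
      rw [move_mul (inv_mem (even_le_tri hp)) (even_le_tri hg) (by omega), e, ← hj,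
        move_inv (even_le_tri hp) hi]
    · obtain ⟨h1, h2⟩ := h
      obtain ⟨g, hg, e⟩ := ih _ h1 (by omega)
      have hp : gen (k + 1) * gen 1 ∈ subEven := pair_mem (b := 0) hk (by norm_num)
      have hj : move (gen (k + 1) * gen 1) i = tT k (tT 0 i) := by
        rw [show gen (k + 1) * gen 1 = prodW tenGen [k, 0] by simp [prodW_cons, prodW_nil, tenGen, hk],
          move_word (by simp; omega) hi]
        show strict (strict i fun j => tT 0 j) (fun j => tT k j) = _
        rw [strict_eq, strict_eq]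
      refine ⟨(gen (k + 1) * gen 1)⁻¹ * g, mul_mem (inv_mem hp) hg, ?_⟩
      rw [Nat.eq_of_beq_eq_true h2] at e
      rw [move_mul (inv_mem (even_le_tri hp)) (even_le_tri hg) (by omega), e, ← hj,
        move_inv (even_le_tri hp) hi]

/-- the representatives in the simple group -/
noncomputable def yEl (j : Fin 13) : Fi23 :=
  let p := evenIdx.getD j (0, 0)
  uG p.2 * rEl p.1 * (uG p.2)⁻¹

theorem idx_lt (j : Fin 13) : (evenIdx.getD j (0, 0)).1 < 7 ∧ (evenIdx.getD j (0, 0)).2 < 3 := by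
  revert j; decide

theorem yEl_even (j : Fin 13) : yEl j ∈ subEven :=
  (tri_norm (word_tri _) (rEl_even (idx_lt j).1)).1

theorem yEl_order (j : Fin 13) : orderOf (yEl j) = 3 := by
  unfold yEl
  simp only
  rw [← MulAut.conj_apply, MulEquiv.orderOf_eq]
  exact rEl_order (idx_lt j).1

theorem uG_zero : uG 0 = 1 := prodW_nil _

theorem merge_pair {b a : ℕ} (ha : a < 3) (hb : b < 7) :
    (∃ j : Fin 13, evenIdx.getD j (0, 0) = (b, a)) ∨ ∃ g ∈ subEven, Fuses (uG a * rEl b * (uG a)⁻¹) (rEl b) g := by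
  have hcase : ∀ a < 3, ∀ b < 7, (∃ j : Fin 13, evenIdx.getD j (0, 0) = (b, a)) ∨
      (mergeRec.any fun e => Nat.beq e.1.1 b && Nat.beq e.1.2 a) = true := by decide +kernel
  rcases hcase a ha b hb with h | h
  · exact Or.inl h
  · right
    obtain ⟨e, he, hbe⟩ := List.any_eq_true.mp h
    simp only [Bool.and_eq_true] at hbe
    have e1 := Nat.eq_of_beq_eq_true hbe.1
    have e2 := Nat.eq_of_beq_eq_true hbe.2
    have hm := List.all_eq_true.mp merge_ok e he
    simp only [mergeOK, Bool.and_eq_true, Bool.or_eq_true, List.all_eq_true, Nat.blt_eq, e1, e2] at hm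
    obtain ⟨⟨⟨hs, hl⟩, hk⟩, hbase⟩ := hm
    set k := e.2.2
    set K := prodW tenGen k
    have hK : K ∈ subEven := word_even (Nat.eq_of_beq_eq_true hl) hk
    refine ⟨K⁻¹, inv_mem hK, ?_⟩
    have hflat : ∀ s : ℕ, prodW tenGen (List.replicate s (repW b)).flatten = rEl b ^ s := by
      intro s
      induction s with
      | zero => simp [prodW_nil]
      | succ s ih => rw [List.replicate_succ, List.flatten_cons, prodW_append, ih, pow_succ']; rfl
    have heq : uG a * rEl b * (uG a)⁻¹ = K * rEl b ^ e.2.1 * K⁻¹ := by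
      refine eq_of_base (subEven_le (tri_norm (word_tri _) (rEl_even hb)).1)
        (subEven_le (mul_mem (mul_mem hK (pow_mem (rEl_even hb) _)) (inv_mem hK))) fun x hx => ?_
      have hu : ∀ g ∈ uLetters a, g < 10 := by
        have : ∀ a < 3, ∀ g ∈ uLetters a, g < 10 := by decide
        exact this a ha
      have hrep : ∀ g ∈ repW b, g < 10 := fun g hg => by have := (rep_word hb).2.1 g hg; omega
      have hlt : x < 3240 := by have := base_lt hx; omega
      rw [← hflat, uG, rEl, ← word_rev, ← word_rev, ← prodW_append, ← prodW_append, ← prodW_append,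
        ← prodW_append, move_word _ hlt, move_word _ hlt]
      · exact Nat.eq_of_beq_eq_true (hbase x hx)
      · intro g hg
        simp only [List.mem_append, List.mem_reverse, List.mem_flatten] at hg
        rcases hg with (hg | ⟨l, hl, hg⟩) | hg
        · have := hk g hg; omega
        · rw [(List.mem_replicate.mp hl).2] at hg; exact hrep g hg
        · have := hk g hg; omega
      · intro g hg
        simp only [List.mem_append, List.mem_reverse] at hg
        rcases hg with (hg | hg) | hg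
        · exact hu g hg
        · exact hrep g hg
        · exact hu g hg
    rw [Fuses, heq, show K⁻¹ * (K * rEl b ^ e.2.1 * K⁻¹) * K⁻¹⁻¹ = rEl b ^ e.2.1 by group]
    exact pow_mem (Subgroup.mem_zpowers _) _

theorem even_cover {x : Fi23} (hx : x ∈ subEven) (ho : orderOf x = 3) :
    ∃ j : Fin 13, ∃ g ∈ subEven, Fuses x (yEl j) g := by
  have h3 : x ^ 3 = 1 := ho ▸ pow_orderOf_eq_one x
  have h1 : x ≠ 1 := fun e => by rw [e, orderOf_one] at ho; omega
  obtain ⟨i, hi, hfix⟩ := order_three_fix hx h3 h1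
  set a := i / 1080 with ha
  have ha3 : a < 3 := by omega
  obtain ⟨hu, hua⟩ := seg_base ha3
  obtain ⟨g, hg, eg⟩ := reach_start (move (uG a) 0) (move_lt (by norm_num))
  obtain ⟨h, hh, eh⟩ := reach_start i hi
  rw [hua] at eg
  rw [← ha] at eh
  set H := h * g⁻¹ with hH
  have hHe : H ∈ subEven := mul_mem hh (inv_mem hg)
  have hlt0 : move (uG a) 0 < 3240 := move_lt (by norm_num)
  have eH : move H (move (uG a) 0) = i := by
    rw [hH, move_mul (even_le_tri hh) (inv_mem (even_le_tri hg)) hlt0, ← eg,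
      move_inv (even_le_tri hg) (by omega), eh]
  set x' := (uG a)⁻¹ * (H⁻¹ * x * H) * uG a with hx'
  have hy : H⁻¹ * x * H ∈ subEven := mul_mem (mul_mem (inv_mem hHe) hx) hHe
  have hx'e : x' ∈ subEven := (tri_norm hu hy).2
  have hx0 : move x' 0 = 0 := by
    rw [hx', mul_assoc, move_mul (inv_mem hu) (mul_mem (even_le_tri hy) hu) (by norm_num),
      move_mul (even_le_tri hy) hu (by norm_num), mul_assoc,
      move_mul (inv_mem (even_le_tri hHe)) (mul_mem (even_le_tri hx) (even_le_tri hHe)) hlt0,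
      move_mul (even_le_tri hx) (even_le_tri hHe) hlt0, eH, hfix]
    conv_lhs => rw [← eH, move_inv (even_le_tri hHe) hlt0, move_inv hu (by norm_num)]
  obtain ⟨b, hb, k, hk, hf⟩ := seven_cover (seven_of_fix hx'e hx0) (by
    have : x' = MulAut.conj ((uG a)⁻¹ * H⁻¹) x := by simp [hx', mul_assoc]
    rw [this, MulEquiv.orderOf_eq, ho])
  have hf' := fuses_conj (uG a) hf
  rw [show uG a * x' * (uG a)⁻¹ = H⁻¹ * x * H by rw [hx']; group] at hf'
  have hke : uG a * k * (uG a)⁻¹ ∈ subEven := (tri_norm hu (seven_le_even hk)).1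
  have hfx : Fuses x (uG a * rEl b * (uG a)⁻¹) (uG a * k * (uG a)⁻¹ * H⁻¹) := by
    simpa [Fuses, mul_assoc] using hf'
  have hmem : uG a * k * (uG a)⁻¹ * H⁻¹ ∈ subEven := mul_mem hke (inv_mem hHe)
  rcases merge_pair ha3 hb with ⟨j, hj⟩ | ⟨m, hm, hmf⟩
  · exact ⟨j, _, hmem, by unfold yEl; rw [hj]; exact hfx⟩
  · refine ⟨⟨b, by omega⟩, _, mul_mem hm hmem, ?_⟩
    have hj : evenIdx.getD b (0, 0) = (b, 0) := by
      have : ∀ b < 7, evenIdx.getD b (0, 0) = (b, 0) := by decide
      exact this b hb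
    unfold yEl
    rw [hj]
    simp only [uG_zero, inv_one, one_mul, mul_one]
    exact fuses_trans hfx hmf

theorem yEl_cnt (j : Fin 13) (c : Fin 3) : cnt (yEl j) c =
    cntOf (evenIdx.getD j (0, 0)).1 (wordSeg (uLetters (evenIdx.getD j (0, 0)).2).reverse c) := by
  obtain ⟨hb, ha⟩ := idx_lt j
  set b := (evenIdx.getD j (0, 0)).1
  set a := (evenIdx.getD j (0, 0)).2
  have hu : uG a ∈ subTri := word_tri _
  obtain ⟨σ, hσ⟩ := seg_perm hu
  have hw : ∀ k ∈ uLetters a, k < 10 := by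
    have : ∀ a < 3, ∀ k ∈ uLetters a, k < 10 := by decide
    exact this a ha
  have hval : ∀ d : Fin 3, (σ d : ℕ) = wordSeg (uLetters a) d := by
    intro d
    have hlt : 1080 * d.1 < 3240 := by omega
    have h := congrArg Fin.val (hσ ⟨1080 * d.1, hlt⟩)
    have hd : seg ⟨1080 * d.1, hlt⟩ = d := Fin.ext (by show 1080 * d.1 / 1080 = d.1; omega)
    rw [hd] at h
    change (triRho ⟨uG a, hu⟩ ⟨1080 * d.1, hlt⟩ : ℕ) / 1080 = (σ d : ℕ) at h
    rw [← move_def hu ⟨1080 * d.1, hlt⟩] at h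
    rw [← h, uG, seg_word hw hlt, show 1080 * d.1 / 1080 = d.1 by omega]
  have hback : ∀ a < 3, ∀ d : Fin 3, wordSeg (uLetters a).reverse (wordSeg (uLetters a) d) = d := by decide
  obtain ⟨d, rfl⟩ := σ.surjective c
  show cnt (uG a * rEl b * (uG a)⁻¹) (σ d) = _
  rw [cnt_conj hu (even_le_tri (rEl_even hb)) hσ d, rEl_cnt hb, hval, hback a ha]

theorem even_separated {i j : Fin 13} {g : Fi23} (hg : g ∈ subEven) (h : Fuses (yEl i) (yEl j) g) : i = j := by
  have hσ : ∀ k, seg (triRho ⟨g, even_le_tri hg⟩ k) = (1 : Equiv.Perm (Fin 3)) (seg k) := fun k =>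
    Fin.ext (by
      show (triRho ⟨g, even_le_tri hg⟩ k : ℕ) / 1080 = k.1 / 1080
      rw [← move_def]; exact seg_even hg k.2)
  have h1 : ∀ a, cnt (yEl j) a = cnt (yEl i) a := fun a =>
    cnt_fuses (even_le_tri hg) (even_le_tri (yEl_even i)) (even_le_tri (yEl_even j))
      (by rw [← yEl_order j]; exact pow_orderOf_eq_one _)
      (fun e => by have := yEl_order i; rw [e, orderOf_one] at this; omega) h hσ a
  simp only [yEl_cnt] at h1
  have hinj : ∀ i j : Fin 13, (∀ a : Fin 3,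
      cntOf (evenIdx.getD j (0, 0)).1 (wordSeg (uLetters (evenIdx.getD j (0, 0)).2).reverse a) =
      cntOf (evenIdx.getD i (0, 0)).1 (wordSeg (uLetters (evenIdx.getD i (0, 0)).2).reverse a)) → i = j := by
    decide +kernel
  exact hinj i j h1

theorem tri_cover {x : Fi23} (hx : x ∈ subEven) (ho : orderOf x = 3) :
    ∃ b : Fin 7, ∃ g ∈ subTri, Fuses x (rEl b) g := by
  obtain ⟨j, g, hg, hf⟩ := even_cover hx ho
  refine ⟨⟨_, (idx_lt j).1⟩, (uG (evenIdx.getD j (0, 0)).2)⁻¹ * g,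
    mul_mem (inv_mem (word_tri _)) (even_le_tri hg), ?_⟩
  refine fuses_trans hf ?_
  show Fuses (yEl j) _ _
  unfold Fuses yEl
  simp only [inv_inv]
  rw [show ∀ u r : Fi23, u⁻¹ * (u * r * u⁻¹) * u = r from fun u r => by group]
  exact Subgroup.mem_zpowers _

theorem map_zpow_conj {A B : Type*} [Group A] [Group B] (φ : A →* B) (hφ : Function.Injective φ) {a b g : A}
    (ha : orderOf (φ a) = 3) (hb : orderOf (φ b) = 3) :
    (Subgroup.zpowers a).map (MulAut.conj g).toMonoidHom = Subgroup.zpowers b ↔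
      φ g * φ a * (φ g)⁻¹ ∈ Subgroup.zpowers (φ b) := by
  rw [MonoidHom.map_zpowers, MulEquiv.coe_toMonoidHom, MulAut.conj_apply]
  constructor
  · intro h
    have := Subgroup.mem_map_of_mem φ (h ▸ Subgroup.mem_zpowers (g * a * g⁻¹))
    rwa [MonoidHom.map_zpowers, map_mul, map_mul, map_inv] at this
  · intro h
    have hb' : orderOf b = 3 := by rwa [orderOf_injective φ hφ] at hb
    have hm : g * a * g⁻¹ ∈ Subgroup.zpowers b := by
      obtain ⟨n, hn⟩ := Subgroup.mem_zpowers_iff.mp h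
      refine Subgroup.mem_zpowers_iff.mpr ⟨n, hφ ?_⟩
      rw [map_zpow, hn, map_mul, map_mul, map_inv]
    have ho : orderOf (g * a * g⁻¹) = 3 := by
      rw [← MulAut.conj_apply, MulEquiv.orderOf_eq, ← orderOf_injective φ hφ, ha]
    have : Finite ↥(Subgroup.zpowers b) := (finite_zpowers.mpr (orderOf_pos_iff.mp (by omega))).to_subtype
    exact Subgroup.eq_of_le_of_card_ge (Subgroup.zpowers_le.mpr hm)
      (by rw [Nat.card_zpowers, Nat.card_zpowers, hb', ho])

/-- classes transported along an injective homomorphism -/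
theorem transport {A : Type*} [Group A] (φ : A →* Fi23) (hφ : Function.Injective φ) {T N : Subgroup Fi23}
    (hT : φ.range = T) {M : Subgroup A} (hM : M.map φ = N) {n : ℕ} (y : Fin n → Fi23)
    (hy : ∀ i, y i ∈ N ∧ orderOf (y i) = 3) (hsep : ∀ i j, ∀ g ∈ T, Fuses (y i) (y j) g → i = j)
    (hall : ∀ x ∈ N, orderOf x = 3 → ∃ i, ∃ g ∈ T, Fuses x (y i) g) :
    ∃ Y : Fin n → Subgroup A, (∀ i, Y i ≤ M ∧ Nat.card (Y i) = 3) ∧
      (∀ i j, (∃ g : A, (Y i).map (MulAut.conj g).toMonoidHom = Y j) → i = j) ∧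
      ∀ X : Subgroup A, X ≤ M → Nat.card X = 3 → ∃ i, ∃ g : A, X.map (MulAut.conj g).toMonoidHom = Y i := by
  have hpre : ∀ i, ∃ a ∈ M, φ a = y i := fun i => Subgroup.mem_map.mp (hM.symm ▸ (hy i).1)
  choose a haM hay using hpre
  refine ⟨fun i => Subgroup.zpowers (a i), fun i => ⟨Subgroup.zpowers_le.mpr (haM i), ?_⟩, ?_, ?_⟩
  · rw [Nat.card_zpowers, ← orderOf_injective φ hφ, hay]; exact (hy i).2
  · rintro i j ⟨g, hg⟩
    refine hsep i j (φ g) (hT ▸ ⟨g, rfl⟩) ?_
    have := (map_zpow_conj φ hφ (by rw [hay]; exact (hy i).2) (by rw [hay]; exact (hy j).2)).mp hg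
    rwa [hay, hay] at this
  · intro X hXM hX
    have : Fact (Nat.Prime 3) := ⟨Nat.prime_three⟩
    have : Finite X := Nat.finite_of_card_ne_zero (by omega)
    have : Nontrivial X := Finite.one_lt_card_iff_nontrivial.mp (by omega)
    obtain ⟨⟨x, hx⟩, hx1⟩ := exists_ne (1 : X)
    have ho : orderOf x = 3 := by
      rcases (Nat.dvd_prime Nat.prime_three).mp (hX ▸ Subgroup.orderOf_dvd_natCard X hx) with h | h
      · exact absurd (Subtype.ext (orderOf_eq_one_iff.mp h)) hx1
      · exact h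
    have hgen : Subgroup.zpowers x = X :=
      Subgroup.eq_of_le_of_card_ge (Subgroup.zpowers_le.mpr hx) (by rw [Nat.card_zpowers, ho, hX])
    have ho' : orderOf (φ x) = 3 := by rw [orderOf_injective φ hφ, ho]
    obtain ⟨i, g, hg, hf⟩ := hall (φ x) (hM ▸ Subgroup.mem_map_of_mem φ (hXM hx)) ho'
    rw [← hT] at hg
    obtain ⟨g', rfl⟩ := hg
    refine ⟨i, g', ?_⟩
    rw [← hgen]
    exact (map_zpow_conj φ hφ ho' (by rw [hay]; exact (hy i).2)).mpr (by rw [hay]; exact hf)

theorem classes_even {A : Type*} [Group A] (e : ↥subEven ≃* A) :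
    ∃ Y : Fin 13 → Subgroup A, (∀ i, Nat.card (Y i) = 3) ∧
      (∀ i j, (∃ g : A, (Y i).map (MulAut.conj g).toMonoidHom = Y j) → i = j) ∧
      ∀ X : Subgroup A, Nat.card X = 3 → ∃ i, ∃ g : A, X.map (MulAut.conj g).toMonoidHom = Y i := by
  have hr : (subEven.subtype.comp e.symm.toMonoidHom).range = subEven := by
    rw [MonoidHom.range_comp, MonoidHom.range_eq_top.mpr e.symm.surjective, ← MonoidHom.range_eq_map,
      Subgroup.range_subtype]
  obtain ⟨Y, h1, h2, h3⟩ := transport (subEven.subtype.comp e.symm.toMonoidHom)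
    (subEven.subtype_injective.comp e.symm.injective) hr (M := ⊤)
    (by rw [← MonoidHom.range_eq_map, hr]) yEl (fun i => ⟨yEl_even i, yEl_order i⟩)
    (fun i j g hg h => even_separated hg h) fun x hx ho => even_cover hx ho
  exact ⟨Y, fun i => (h1 i).2, h2, fun X hX => h3 X le_top hX⟩

theorem classes_tri {A : Type*} [Group A] (e : A ≃* ↥subTri) {M : Subgroup A}
    (hM : M.map e.toMonoidHom = triEven) :
    ∃ Y : Fin 7 → Subgroup A, (∀ i, Y i ≤ M ∧ Nat.card (Y i) = 3) ∧
      (∀ i j, (∃ g : A, (Y i).map (MulAut.conj g).toMonoidHom = Y j) → i = j) ∧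
      ∀ X : Subgroup A, X ≤ M → Nat.card X = 3 → ∃ i, ∃ g : A, X.map (MulAut.conj g).toMonoidHom = Y i := by
  have hr : (subTri.subtype.comp e.toMonoidHom).range = subTri := by
    rw [MonoidHom.range_comp, MonoidHom.range_eq_top.mpr e.surjective, ← MonoidHom.range_eq_map,
      Subgroup.range_subtype]
  have hm : M.map (subTri.subtype.comp e.toMonoidHom) = subEven := by
    rw [← Subgroup.map_map, hM, triEven, Subgroup.subgroupOf_map_subtype, inf_eq_left.mpr even_le_tri]
  exact transport (subTri.subtype.comp e.toMonoidHom) (subTri.subtype_injective.comp e.injective) hr hm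
    (fun b : Fin 7 => rEl b) (fun b => ⟨rEl_even b.2, rEl_order b.2⟩)
    (fun b c g hg h => Fin.ext (rEl_separated b.2 c.2 hg h)) fun x hx ho => tri_cover hx ho

end CfsgLib.OEightThree
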