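import Cfsg.Agent.Lib.CosetEnum.Basic

/-!
Representatives of the classes of elements of order three (generated).
-/

set_option autoImplicit false
set_option maxRecDepth 100000
set_option linter.style.longLine false

namespace CfsgLib.OEightThree

open CfsgLib.CosetEnum

/-- the words of the representatives fixing the base -/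
def repLets : List (List ℕ) :=
  [[8, 5, 4, 3, 2, 6, 1, 2, 3, 4, 5, 8, 0, 1, 2, 6, 3, 4, 2, 3, 1, 2, 6, 5, 4, 3, 2, 1, 0, 1, 2, 3, 4, 5, 6, 2, 1, 3, 2, 4, 3, 6, 2, 1, 0, 8, 5, 4, 3, 2, 1, 6, 2, 3, 4, 5, 8, 4, 3, 2, 6, 1, 2, 3, 4, 5, 8, 0, 1, 2, 6, 3, 4, 2, 3, 1, 2, 6, 5, 4, 3, 2, 1, 0, 1, 2, 3, 4, 5, 6, 2, 1, 3, 2, 4, 3, 6, 2, 1, 0, 8, 5, 4, 3, 2, 1, 6, 2, 3, 4, 8, 4, 2, 3, 0, 1, 2, 6, 7, 4, 3, 1, 2, 6, 5, 4, 3, 2, 1, 0, 1, 2, 3, 4, 5, 6, 2, 1, 3, 4, 7, 6, 2, 1, 0, 3, 2, 4, 8, 6, 2, 3, 4, 5, 8, 6, 2, 3, 1, 2, 6, 7, 3, 4, 2, 3, 1, 2, 6, 5, 4, 3, 2, 1, 0, 1, 2, 3, 4, 5, 6, 2, 1, 3, 2, 4, 3, 7, 6, 2, 1, 3,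 2, 6, 8, 5, 4, 3, 2, 6, 8, 5, 4, 3, 2, 6, 1, 2, 3, 4, 5, 8, 0, 1, 2, 6, 3, 4, 2, 3, 1, 2, 6, 5, 4, 3, 2, 1, 0, 1, 2, 3, 4, 5, 6, 2, 1, 3, 2, 4, 3, 6, 2, 1, 0, 8, 5, 4, 3, 2, 1, 6, 2, 3, 4, 5, 8, 4, 3, 2, 6, 1, 2, 3, 4, 5, 8, 0, 1, 2, 6, 3, 4, 2, 3, 1, 2, 6, 5, 4, 3, 2, 1, 0, 1, 2, 3, 4, 5, 6, 2, 1, 3, 2, 4, 3, 6, 2, 1, 0, 8, 5, 4, 3, 2, 1, 6, 2, 3, 4, 4, 5, 8, 2, 3, 1, 2, 6, 7, 4, 3, 1, 2, 6, 5, 4, 3, 2, 1, 0, 1, 2, 3, 4, 5, 6, 2, 1, 3, 4, 7, 6, 2, 1, 3, 2, 8, 5, 4, 6, 2, 3, 4, 5, 8, 5, 4, 2, 3, 1, 2, 6, 7, 3, 4, 2, 3, 1, 2, 6, 5, 4, 3, 2, 1, 0, 1, 2, 3, 4, 5, 6, 2, 1, 3, 2, 4, 3, 7, 6, 2, 1, 3, 2, 4, 5,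 8, 5, 4, 3, 2, 6, 8, 5, 4, 3, 2, 6, 1, 2, 3, 4, 5, 8, 0, 1, 2, 6, 3, 4, 2, 3, 1, 2, 6, 5, 4, 3, 2, 1, 0, 1, 2, 3, 4, 5, 6, 2, 1, 3, 2, 4, 3, 6, 2, 1, 0, 8, 5, 4, 3, 2, 1, 6, 2, 3, 4, 5, 8, 4, 3, 2, 6, 1, 2, 3, 4, 5, 8, 0, 1, 2, 6, 3, 4, 2, 3, 1, 2, 6, 5, 4, 3, 2, 1, 0, 1, 2, 3, 4, 5, 6, 2, 1, 3, 2, 4, 3, 6, 2, 1, 0, 8, 5, 4, 3, 2, 1, 6, 2, 3, 4, 4, 5, 8, 2, 3, 1, 2, 6, 7, 4, 3, 1, 2, 6, 5, 4, 3, 2, 1, 0, 1, 2, 3, 4, 5, 6, 2, 1, 3, 4, 7, 6, 2, 1, 3, 2, 8, 5, 4, 6, 2, 3, 4, 5, 8, 5, 4, 2, 3, 1, 2, 6, 7, 3, 4, 2, 3, 1, 2, 6, 5, 4, 3, 2, 1, 0, 1, 2, 3, 4, 5, 6, 2, 1, 3, 2, 4, 3, 7, 6, 2, 1, 3, 2, 4, 5, 8, 5,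 4, 3, 2, 6],
  [8, 5, 4, 3, 2, 6, 1, 2, 3, 4, 5, 8, 0, 1, 2, 6, 3, 4, 2, 3, 1, 2, 6, 5, 4, 3, 2, 1, 0, 1, 2, 3, 4, 5, 6, 2, 1, 3, 2, 4, 3, 6, 2, 1, 0, 8, 5, 4, 3, 2, 1, 3, 4, 5, 8, 7, 2, 6, 3, 4, 2, 3, 1, 2, 6, 5, 4, 3, 2, 1, 0, 1, 2, 3, 4, 5, 6, 2, 1, 3, 2, 4, 3, 6, 2, 7, 8, 5, 4, 3, 7, 4, 3, 2, 6, 5, 4, 3, 2, 1, 0, 1, 2, 3, 4, 5, 6, 2, 3, 4, 7, 0, 1, 2, 6, 7, 4, 2, 3, 1, 2, 6, 5, 4, 3, 2, 1, 0, 1, 2, 3, 4, 5, 6, 2, 1, 3, 2, 4, 7, 6, 2, 1, 0, 6, 2, 3, 4, 5, 8],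
  [8, 5, 4, 3, 2, 6, 1, 2, 3, 4, 5, 8, 0, 1, 2, 6, 3, 4, 2, 3, 1, 2, 6, 5, 4, 3, 2, 1, 0, 1, 2, 3, 4, 5, 6, 2, 1, 3, 2, 4, 3, 6, 2, 1, 0, 8, 5, 4, 3, 2, 1, 6, 2, 3, 4, 5, 8, 4, 3, 2, 6, 1, 2, 3, 4, 5, 8, 0, 1, 2, 6, 3, 4, 2, 3, 1, 2, 6, 5, 4, 3, 2, 1, 0, 1, 2, 3, 4, 5, 6, 2, 1, 3, 2, 4, 3, 6, 2, 1, 0, 8, 5, 4, 3, 2, 1, 6, 2, 3, 4, 8, 4, 2, 3, 0, 1, 2, 6, 7, 4, 3, 1, 2, 6, 5, 4, 3, 2, 1, 0, 1, 2, 3, 4, 5, 6, 2, 1, 3, 4, 7, 6, 2, 1, 0, 3, 2, 4, 8, 6, 2, 3, 4, 5, 8, 6, 2, 3, 1, 2, 6, 7, 3, 4, 2, 3, 1, 2, 6, 5, 4, 3, 2, 1, 0, 1, 2, 3, 4, 5, 6, 2, 1, 3, 2, 4, 3, 7, 6, 2, 1, 3, 2, 6, 8, 5, 4, 3, 2, 6, 8, 5, 4,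 3, 2, 6, 1, 2, 3, 4, 5, 8, 0, 1, 2, 6, 3, 4, 2, 3, 1, 2, 6, 5, 4, 3, 2, 1, 0, 1, 2, 3, 4, 5, 6, 2, 1, 3, 2, 4, 3, 6, 2, 1, 0, 8, 5, 4, 3, 2, 1, 6, 2, 3, 4, 5, 8, 4, 3, 2, 6, 1, 2, 3, 4, 5, 8, 0, 1, 2, 6, 3, 4, 2, 3, 1, 2, 6, 5, 4, 3, 2, 1, 0, 1, 2, 3, 4, 5, 6, 2, 1, 3, 2, 4, 3, 6, 2, 1, 0, 8, 5, 4, 3, 2, 1, 6, 2, 3, 4, 4, 5, 8, 2, 3, 1, 2, 6, 7, 4, 3, 1, 2, 6, 5, 4, 3, 2, 1, 0, 1, 2, 3, 4, 5, 6, 2, 1, 3, 4, 7, 6, 2, 1, 3, 2, 8, 5, 4, 6, 2, 3, 4, 5, 8, 5, 4, 2, 3, 1, 2, 6, 7, 3, 4, 2, 3, 1, 2, 6, 5, 4, 3, 2, 1, 0, 1, 2, 3, 4, 5, 6, 2, 1, 3, 2, 4, 3, 7, 6, 2, 1, 3, 2, 4, 5, 8, 5, 4, 3, 2, 6],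
  [8, 5, 4, 3, 2, 1, 0, 6, 2, 1, 3, 4, 7, 6, 2, 1, 3, 4, 8, 5, 4, 3, 2, 6, 1, 2, 3, 4, 5, 8, 0, 1, 2, 6, 3, 4, 2, 3, 1, 2, 6, 5, 4, 3, 2, 1, 0, 1, 2, 3, 4, 5, 6, 2, 1, 3, 2, 4, 3, 6, 2, 1, 0, 8, 5, 4, 3, 2, 1, 6, 2, 3, 4, 5, 8, 4, 3, 2, 6, 1, 2, 3, 4, 5, 8, 0, 1, 2, 6, 3, 4, 2, 3, 1, 2, 6, 5, 4, 3, 2, 1, 0, 1, 2, 3, 4, 5, 6, 2, 1, 3, 2, 4, 3, 6, 2, 1, 0, 8, 5, 4, 3, 2, 1, 6, 2, 3, 4, 1, 2, 3, 4, 5, 8, 6, 5, 4, 2, 3, 1, 2, 6, 7, 4, 3, 1, 2, 6, 5, 4, 3, 2, 1, 0, 1, 2, 3, 4, 5, 6, 2, 1, 3, 4, 7, 6, 2, 1, 3, 2, 4, 5, 6, 8, 5, 4, 3, 2, 1, 8, 5, 4, 3, 2, 6, 7, 6, 2, 3, 1, 2, 6, 5, 4, 3, 2, 1, 0, 1, 2, 3, 4, 5,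 6, 2, 1, 3, 2, 6, 7, 6, 2, 3, 4, 5, 8, 6, 1, 2, 3, 4, 5, 8, 0, 1, 2, 6, 3, 4, 2, 3, 1, 2, 6, 5, 4, 3, 2, 1, 0, 1, 2, 3, 4, 5, 6, 2, 1, 3, 2, 4, 3, 6, 2, 1, 0, 8, 5, 4, 3, 2, 1, 6, 4, 5, 8, 3, 1, 2, 6, 7, 4, 3, 2, 6, 5, 4, 3, 2, 1, 0, 1, 2, 3, 4, 5, 6, 2, 3, 4, 7, 6, 2, 1, 3, 8, 5, 4, 3, 0, 1, 2, 6, 7, 4, 3, 2, 6, 5, 4, 3, 2, 1, 2, 3, 4, 5, 6, 2, 3, 4, 7, 6, 2, 1, 0, 3, 0, 1, 2, 6, 7, 4, 3, 1, 2, 6, 5, 4, 3, 2, 1, 0, 1, 2, 3, 4, 5, 6, 2, 1, 3, 4, 7, 6, 2, 1, 0, 6, 1, 2, 3, 4, 5, 8, 0, 1, 2, 6, 3, 4, 2, 3, 1, 2, 6, 5, 4, 3, 2, 1, 0, 1, 2, 3, 4, 5, 6, 2, 1, 3, 2, 4, 3, 6, 2, 1, 0, 8, 5, 4, 3, 2, 1, 6, 4, 5,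 8, 3, 1, 2, 6, 7, 4, 3, 2, 6, 5, 4, 3, 2, 1, 0, 1, 2, 3, 4, 5, 6, 2, 3, 4, 7, 6, 2, 1, 3, 8, 5, 4, 3, 0, 1, 2, 6, 7, 4, 3, 2, 6, 5, 4, 3, 2, 1, 2, 3, 4, 5, 6, 2, 3, 4, 7, 6, 2, 1, 0, 3, 0, 1, 2, 6, 7, 4, 3, 1, 2, 6, 5, 4, 3, 2, 1, 0, 1, 2, 3, 4, 5, 6, 2, 1, 3, 4, 7, 6, 2, 1, 0, 2, 6, 1, 2, 3, 4, 5, 8, 0, 1, 2, 6, 3, 4, 2, 3, 1, 2, 6, 5, 4, 3, 2, 1, 0, 1, 2, 3, 4, 5, 6, 2, 1, 3, 2, 4, 3, 6, 2, 1, 0, 8, 5, 4, 3, 2, 1, 6, 2, 2, 3, 0, 1, 2, 6, 7, 4, 3, 2, 6, 5, 4, 3, 2, 1, 2, 3, 4, 5, 6, 2, 3, 4, 7, 6, 2, 1, 0, 3, 2, 4, 5, 8, 2, 3, 1, 2, 6, 7, 4, 3, 2, 6, 5, 4, 3, 2, 1, 0, 1, 2, 3, 4, 5, 6, 2, 3, 4, 7, 6, 2,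 1, 3, 2, 8, 5, 4, 8, 1, 2, 6, 7, 3, 2, 6, 5, 4, 3, 2, 1, 0, 1, 2, 3, 4, 5, 6, 2, 3, 7, 6, 2, 1, 8, 4, 3, 1, 2, 6, 7, 4, 3, 1, 2, 6, 0, 1, 2, 3, 4, 5, 8],
  [8, 5, 4, 3, 2, 1, 0, 6, 2, 1, 3, 4, 7, 6, 2, 1, 3, 4, 8, 5, 4, 3, 2, 6, 1, 2, 3, 4, 5, 8, 0, 1, 2, 6, 3, 4, 2, 3, 1, 2, 6, 5, 4, 3, 2, 1, 0, 1, 2, 3, 4, 5, 6, 2, 1, 3, 2, 4, 3, 6, 2, 1, 0, 8, 5, 4, 3, 2, 1, 6, 2, 3, 4, 5, 8, 4, 3, 2, 6, 1, 2, 3, 4, 5, 8, 0, 1, 2, 6, 3, 4, 2, 3, 1, 2, 6, 5, 4, 3, 2, 1, 0, 1, 2, 3, 4, 5, 6, 2, 1, 3, 2, 4, 3, 6, 2, 1, 0, 8, 5, 4, 3, 2, 1, 6, 2, 3, 4, 1, 2, 3, 4, 5, 8, 6, 5, 4, 2, 3, 1, 2, 6, 7, 4, 3, 1, 2, 6, 5, 4, 3, 2,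 1, 0, 1, 2, 3, 4, 5, 6, 2, 1, 3, 4, 7, 6, 2, 1, 3, 2, 4, 5, 6, 8, 5, 4, 3, 2, 1, 8, 5, 4, 3, 2, 6, 7, 6, 2, 3, 1, 2, 6, 5, 4, 3, 2, 1, 0, 1, 2, 3, 4, 5, 6, 2, 1, 3, 2, 6, 7, 6, 2, 3, 4, 5, 8, 6, 1, 2, 3, 4, 5, 8, 0, 1, 2, 6, 3, 4, 2, 3, 1, 2, 6, 5, 4, 3, 2, 1, 0, 1, 2, 3, 4, 5, 6, 2, 1, 3, 2, 4, 3, 6, 2, 1, 0, 8, 5, 4, 3, 2, 1, 6, 4, 5, 8, 3, 1, 2, 6, 7, 4, 3, 2, 6, 5, 4, 3, 2, 1, 0, 1, 2, 3, 4, 5, 6, 2, 3, 4, 7, 6, 2, 1, 3, 8, 5, 4, 3, 0, 1, 2, 6, 7, 4, 3, 2, 6, 5, 4, 3, 2, 1, 2, 3, 4, 5, 6, 2, 3, 4, 7, 6, 2, 1, 0, 3, 0, 1, 2, 6, 7, 4, 3, 1, 2, 6, 5, 4, 3, 2, 1, 0, 1, 2, 3, 4, 5, 6, 2, 1, 3, 4, 7, 6, 2,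 1, 0, 2, 6, 1, 2, 3, 4, 5, 8, 0, 1, 2, 6, 3, 4, 2, 3, 1, 2, 6, 5, 4, 3, 2, 1, 0, 1, 2, 3, 4, 5, 6, 2, 1, 3, 2, 4, 3, 6, 2, 1, 0, 8, 5, 4, 3, 2, 1, 6, 2, 2, 3, 0, 1, 2, 6, 7, 4, 3, 2, 6, 5, 4, 3, 2, 1, 2, 3, 4, 5, 6, 2, 3, 4, 7, 6, 2, 1, 0, 3, 2, 4, 5, 8, 2, 3, 1, 2, 6, 7, 4, 3, 2, 6, 5, 4, 3, 2, 1, 0, 1, 2, 3, 4, 5, 6, 2, 3, 4, 7, 6, 2, 1, 3, 2, 8, 5, 4, 8, 1, 2, 6, 7, 3, 2, 6, 5, 4, 3, 2, 1, 0, 1, 2, 3, 4, 5, 6, 2, 3, 7, 6, 2, 1, 8, 2, 6, 1, 2, 3, 4, 5, 8, 0, 1, 2, 6, 3, 4, 2, 3, 1, 2, 6, 5, 4, 3, 2, 1, 0, 1, 2, 3, 4, 5, 6, 2, 1, 3, 2, 4, 3, 6, 2, 1, 0, 8, 5, 4, 3, 2, 1, 6, 2, 2, 3, 0, 1, 2, 6, 7, 4, 3,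 2, 6, 5, 4, 3, 2, 1, 2, 3, 4, 5, 6, 2, 3, 4, 7, 6, 2, 1, 0, 3, 2, 4, 5, 8, 2, 3, 1, 2, 6, 7, 4, 3, 2, 6, 5, 4, 3, 2, 1, 0, 1, 2, 3, 4, 5, 6, 2, 3, 4, 7, 6, 2, 1, 3, 2, 8, 5, 4, 8, 1, 2, 6, 7, 3, 2, 6, 5, 4, 3, 2, 1, 0, 1, 2, 3, 4, 5, 6, 2, 3, 7, 6, 2, 1, 8, 4, 3, 1, 2, 6, 7, 4, 3, 1, 2, 6, 0, 1, 2, 3, 4, 5, 8],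
  [8, 5, 4, 3, 2, 1, 0, 6, 2, 1, 3, 4, 5, 7, 6, 2, 3, 4, 8, 5, 4, 3, 2, 6, 1, 2, 3, 4, 5, 8, 0, 1, 2, 6, 3, 4, 2, 3, 1, 2, 6, 5, 4, 3, 2, 1, 0, 1, 2, 3, 4, 5, 6, 2, 1, 3, 2, 4, 3, 6, 2, 1, 0, 8, 5, 4, 3, 2, 1, 6, 2, 3, 4, 5, 8, 4, 3, 2, 6, 1, 2, 3, 4, 5, 8, 0, 1, 2, 6, 3, 4, 2, 3, 1, 2, 6, 5, 4, 3, 2, 1, 0, 1, 2, 3, 4, 5, 6, 2, 1, 3, 2, 4, 3, 6, 2, 1, 0, 8, 5, 4, 3, 2, 1, 6, 2, 3, 4, 1, 2, 3, 4, 5, 8, 6, 5, 4, 2, 3, 1, 2, 6, 7, 4, 3, 1, 2, 6, 5, 4, 3, 2, 1, 0, 1, 2, 3, 4, 5, 6, 2, 1, 3, 4, 7, 6, 2, 1, 3, 2, 4, 5, 6, 8, 5, 4, 3, 2, 1, 8, 5, 4, 3, 2, 6, 7, 6, 2, 3, 1, 2, 6, 5, 4, 3, 2, 1, 0, 1, 2, 3, 4, 5,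 6, 2, 1, 3, 2, 6, 7, 6, 2, 3, 4, 5, 8, 6, 1, 2, 3, 4, 5, 8, 0, 1, 2, 6, 3, 4, 2, 3, 1, 2, 6, 5, 4, 3, 2, 1, 0, 1, 2, 3, 4, 5, 6, 2, 1, 3, 2, 4, 3, 6, 2, 1, 0, 8, 5, 4, 3, 2, 1, 6, 4, 5, 8, 3, 1, 2, 6, 7, 4, 3, 2, 6, 5, 4, 3, 2, 1, 0, 1, 2, 3, 4, 5, 6, 2, 3, 4, 7, 6, 2, 1, 3, 8, 5, 4, 3, 0, 1, 2, 6, 7, 4, 3, 2, 6, 5, 4, 3, 2, 1, 2, 3, 4, 5, 6, 2, 3, 4, 7, 6, 2, 1, 0, 3, 0, 1, 2, 6, 7, 4, 3, 1, 2, 6, 5, 4, 3, 2, 1, 0, 1, 2, 3, 4, 5, 6, 2, 1, 3, 4, 7, 6, 2, 1, 0, 2, 6, 1, 2, 3, 4, 5, 8, 0, 1, 2, 6, 3, 4, 2, 3, 1, 2, 6, 5, 4, 3, 2, 1, 0, 1, 2, 3, 4, 5, 6, 2, 1, 3, 2, 4, 3, 6, 2, 1, 0, 8, 5, 4, 3, 2, 1, 6, 2,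 2, 3, 0, 1, 2, 6, 7, 4, 3, 2, 6, 5, 4, 3, 2, 1, 2, 3, 4, 5, 6, 2, 3, 4, 7, 6, 2, 1, 0, 3, 2, 4, 5, 8, 2, 3, 1, 2, 6, 7, 4, 3, 2, 6, 5, 4, 3, 2, 1, 0, 1, 2, 3, 4, 5, 6, 2, 3, 4, 7, 6, 2, 1, 3, 2, 8, 5, 4, 8, 1, 2, 6, 7, 3, 2, 6, 5, 4, 3, 2, 1, 0, 1, 2, 3, 4, 5, 6, 2, 3, 7, 6, 2, 1, 8, 8, 5, 4, 3, 2, 6, 1, 2, 3, 4, 5, 8, 0, 1, 2, 6, 3, 4, 2, 3, 1, 2, 6, 5, 4, 3, 2, 1, 0, 1, 2, 3, 4, 5, 6, 2, 1, 3, 2, 4, 3, 6, 2, 1, 0, 8, 5, 4, 3, 2, 1, 6, 2, 3, 4, 5, 8, 4, 3, 2, 6, 1, 2, 3, 4, 5, 8, 0, 1, 2, 6, 3, 4, 2, 3, 1, 2, 6, 5, 4, 3, 2, 1, 0, 1, 2, 3, 4, 5, 6, 2, 1, 3, 2, 4, 3, 6, 2, 1, 0, 8, 5, 4, 3, 2, 1, 6, 2, 3,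 4, 8, 4, 3, 2, 6, 7, 2, 3, 1, 2, 6, 5, 4, 3, 2, 1, 0, 1, 2, 3, 4, 5, 6, 2, 1, 3, 2, 7, 6, 2, 3, 4, 8, 1, 2, 3, 4, 5, 8, 3, 0, 1, 2, 6, 7, 3, 4, 2, 3, 1, 2, 6, 5, 4, 3, 2, 1, 0, 1, 2, 3, 4, 5, 6, 2, 1, 3, 2, 4, 3, 7, 6, 2, 1, 0, 3, 8, 5, 4, 3, 2, 1, 4, 3, 2, 6, 7, 5, 4, 3, 1, 2, 6, 0, 1, 2, 3, 4, 5, 8],
  [8, 5, 4, 3, 2, 1, 0, 6, 2, 1, 3, 2, 4, 3, 5, 4, 8, 8, 5, 4, 3, 2, 6, 1, 2, 3, 4, 5, 8, 0, 1, 2, 6, 3, 4, 2, 3, 1, 2, 6, 5, 4, 3, 2, 1, 0, 1, 2, 3, 4, 5, 6, 2, 1, 3, 2, 4, 3, 6, 2, 1, 0, 8, 5, 4, 3, 2, 1, 6, 2, 3, 4, 5, 8, 4, 3, 2, 6, 1, 2, 3, 4, 5, 8, 0, 1, 2, 6, 3, 4, 2, 3, 1, 2, 6, 5, 4, 3, 2, 1, 0, 1,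 2, 3, 4, 5, 6, 2, 1, 3, 2, 4, 3, 6, 2, 1, 0, 8, 5, 4, 3, 2, 1, 6, 2, 3, 4, 8, 4, 2, 3, 0, 1, 2, 6, 7, 4, 3, 1, 2, 6, 5, 4, 3, 2, 1, 0, 1, 2, 3, 4, 5, 6, 2, 1, 3, 4, 7, 6, 2, 1, 0, 3, 2, 4, 8, 6, 2, 3, 4, 5, 8, 6, 2, 3, 1, 2, 6, 7, 3, 4, 2, 3, 1, 2, 6, 5, 4, 3, 2, 1, 0, 1, 2, 3, 4, 5, 6, 2, 1, 3, 2, 4, 3, 7, 6, 2, 1, 3, 2, 6, 8, 5, 4, 3, 2, 6, 2, 6, 1, 2, 3, 4, 5, 8, 0, 1, 2, 6, 3, 4, 2, 3, 1, 2, 6, 5, 4, 3, 2, 1, 0, 1, 2, 3, 4, 5, 6, 2, 1, 3, 2, 4, 3, 6, 2, 1, 0, 8, 5, 4, 3, 2, 1, 6, 2, 2, 3, 0, 1, 2, 6, 7, 4, 3, 2, 6, 5, 4, 3, 2, 1, 2, 3, 4, 5, 6, 2, 3, 4, 7, 6, 2, 1, 0, 3, 2, 4, 5, 8, 2, 3, 1, 2, 6, 7,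 4, 3, 2, 6, 5, 4, 3, 2, 1, 0, 1, 2, 3, 4, 5, 6, 2, 3, 4, 7, 6, 2, 1, 3, 2, 8, 5, 4, 8, 1, 2, 6, 7, 3, 2, 6, 5, 4, 3, 2, 1, 0, 1, 2, 3, 4, 5, 6, 2, 3, 7, 6, 2, 1, 8, 8, 4, 5, 3, 4, 2, 3, 1, 2, 6, 0, 1, 2, 3, 4, 5, 8]]

/-- the numbers of fixed points on the orbits -/
def repCnt : List (List ℕ) := [[135, 0, 0], [108, 108, 108], [108, 0, 0], [27, 27, 27], [27, 0, 0], [18, 18, 18], [9, 9, 9]]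

/-- the fusions of the symmetric representatives -/
def mergeRec : List ((ℕ × ℕ) × ℕ × List ℕ) :=
  [((1, 1), (1, [6, 0, 6, 2, 3, 1, 2, 6, 5, 4, 3, 2, 1, 0, 1, 2, 3, 4, 5, 6, 2, 1, 3, 2, 6, 7, 6, 2, 3, 1, 2, 6, 5, 4, 3, 2, 1, 0, 1, 2, 3, 4, 5, 6, 2, 1, 3, 2, 6, 7, 8, 6, 4, 2, 3, 0, 1, 2, 6, 7, 3, 4, 2, 3, 1, 2, 6, 5, 4, 3, 2, 1, 0, 1, 2, 3, 4, 5, 6, 2, 1, 3, 2, 4, 3, 7, 6, 2, 1, 0, 3, 2, 4, 6, 8, 4, 5, 8, 6, 3, 4, 2, 3, 1, 2, 6, 7, 4, 2, 3, 1, 2, 6, 5, 4, 3, 2, 1, 0, 1, 2, 3, 4, 5, 6, 2, 1, 3, 2, 4, 7, 6, 2, 1, 3, 2, 4, 3, 6, 8, 5, 4, 8, 5, 4, 3, 2, 6, 1, 2, 3, 4, 5, 8, 0, 1, 2, 6, 3, 4, 2, 3, 1, 2, 6,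 5, 4, 3, 2, 1, 0, 1, 2, 3, 4, 5, 6, 2, 1, 3, 2, 4, 3, 6, 2, 1, 0, 8, 5, 4, 3, 2, 1, 6, 2, 3, 4, 5, 8, 3, 4, 5, 8, 5, 4, 3, 2, 6, 7, 3, 4, 2, 3, 1, 2, 6, 5, 4, 3, 2, 1, 0, 1, 2, 3, 4, 5, 6, 2, 1, 3, 2, 4, 3, 7, 6, 2, 3, 4, 5, 8, 5, 4, 3, 3, 4, 5, 8, 5, 4, 2, 3, 1, 2, 6, 7, 3, 4, 2, 3, 1, 2, 6, 5, 4, 3, 2, 1, 0, 1, 2, 3, 4, 5, 6, 2, 1, 3, 2, 4, 3, 7, 6, 2, 1, 3, 2, 4, 5, 8, 5, 4, 3, 6, 2, 3, 4, 5, 8, 5, 4, 2, 3, 1, 2, 6, 7, 3, 4, 2, 3, 1, 2, 6, 5, 4, 3, 2, 1, 0, 1, 2, 3, 4, 5, 6, 2, 1, 3, 2, 4, 3, 7, 6, 2, 1, 3, 2, 4, 5, 8, 5, 4, 3, 2, 6])),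
  ((1, 2), (1, [6, 2, 3, 1, 2, 6, 5, 4, 3, 2, 1, 0, 1, 2, 3, 4, 5, 6, 2, 1, 3, 2, 6, 7, 6, 2, 3, 1, 2, 6, 5, 4, 3, 2, 1, 0, 1, 2, 3, 4, 5, 6, 2, 1, 3, 2, 6, 7, 8, 6, 4, 2, 3, 0, 1, 2, 6, 7, 3, 4, 2, 3, 1, 2, 6, 5, 4, 3, 2, 1, 0, 1, 2, 3, 4, 5, 6, 2, 1, 3, 2, 4, 3, 7, 6, 2, 1, 0, 3, 2, 4, 6, 8, 4, 5, 8, 6, 3, 4, 2, 3, 1, 2, 6, 7, 4, 2, 3, 1, 2, 6, 5, 4, 3, 2, 1, 0, 1, 2, 3, 4, 5, 6, 2, 1, 3, 2, 4, 7, 6, 2, 1, 3, 2, 4, 3, 6, 8, 5, 4, 8, 5, 4, 3, 2, 6, 1, 2, 3, 4, 5, 8, 0, 1, 2, 6, 3, 4, 2, 3, 1, 2, 6, 5, 4, 3, 2, 1, 0, 1, 2, 3, 4, 5, 6, 2, 1, 3, 2, 4, 3, 6, 2, 1, 0, 8, 5, 4, 3, 2, 1, 6, 2, 3, 4, 5, 8, 3, 4,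 5, 8, 5, 4, 3, 2, 6, 7, 3, 4, 2, 3, 1, 2, 6, 5, 4, 3, 2, 1, 0, 1, 2, 3, 4, 5, 6, 2, 1, 3, 2, 4, 3, 7, 6, 2, 3, 4, 5, 8, 5, 4, 3, 3, 4, 5, 8, 5, 4, 2, 3, 1, 2, 6, 7, 3, 4, 2, 3, 1, 2, 6, 5, 4, 3, 2, 1, 0, 1, 2, 3, 4, 5, 6, 2, 1, 3, 2, 4, 3, 7, 6, 2, 1, 3, 2, 4, 5, 8, 5, 4, 3, 6, 2, 3, 4, 5, 8, 5, 4, 2, 3, 1, 2, 6, 7, 3, 4, 2, 3, 1, 2, 6, 5, 4, 3, 2, 1, 0, 1, 2, 3, 4, 5, 6, 2, 1, 3, 2, 4, 3, 7, 6, 2, 1, 3, 2, 4, 5, 8, 5, 4, 3, 2, 6, 0, 6, 0, 2])),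
  ((3, 1), (1, [0, 1, 2, 6, 7, 4, 3, 1, 2, 6, 5, 4, 3, 2, 1, 0, 1, 2, 3, 4, 5, 6, 2, 1, 3, 4, 7, 6, 2, 1, 0, 3, 0, 1, 2, 6, 7, 4, 3, 2, 6, 5, 4, 3, 2, 1, 2, 3, 4, 5, 6, 2, 3, 4, 7, 6, 2, 1, 0, 3, 4, 5, 8, 3, 1, 2, 6, 7, 4, 3, 2, 6, 5, 4, 3, 2, 1, 0, 1, 2, 3, 4, 5, 6, 2, 3, 4, 7, 6, 2, 1, 3, 8, 5, 4, 6, 1, 2, 3, 4, 5, 8, 0, 1, 2, 6, 3, 4, 2, 3, 1, 2, 6, 5, 4, 3, 2, 1, 0, 1, 2, 3, 4, 5, 6, 2, 1, 3, 2, 4, 3, 6, 2, 1, 0, 8, 5, 4, 3, 2, 1, 6, 6, 2, 3, 4, 5, 8, 5, 4, 2, 3, 1, 2, 6, 7, 3, 4, 2, 3, 1, 2, 6, 5, 4, 3, 2, 1, 0, 1, 2, 3, 4, 5, 6, 2, 1, 3, 2, 4, 3, 7, 6, 2, 1, 3, 2, 4, 5, 8, 5, 4, 3, 2, 6, 3, 4, 5, 8,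 5, 4, 2, 3, 1, 2, 6, 7, 6, 3, 4, 2, 3, 1, 2, 6, 5, 4, 3, 2, 1, 0, 1, 2, 3, 4, 5, 6, 2, 1, 3, 2, 4, 3, 6, 7, 6, 2, 1, 3, 2, 4, 5, 8, 5, 4, 3, 3, 4, 5, 8, 5, 4, 3, 2, 6, 7, 6, 3, 4, 2, 3, 1, 2, 6, 5, 4, 3, 2, 1, 0, 1, 2, 3, 4, 5, 6, 2, 1, 3, 2, 4, 3, 6, 7, 6, 2, 3, 4, 5, 8, 5, 4, 3, 8, 5, 4, 3, 2, 6, 1, 2, 3, 4, 5, 8, 0, 1, 2, 6, 3, 4, 2, 3, 1, 2, 6, 5, 4, 3, 2, 1, 0, 1, 2, 3, 4, 5, 6, 2, 1, 3, 2, 4, 3, 6, 2, 1, 0, 8, 5, 4, 3, 2, 1, 6, 2, 3, 4, 5, 8, 0, 1, 2, 6, 7, 4, 3, 1, 2, 6, 5, 4, 3, 2, 1, 0, 1, 2, 3, 4, 5, 6, 2, 1, 3, 4, 7, 6, 2, 1, 0, 3, 0, 1, 2, 6, 7, 4, 3, 2, 6, 5, 4, 3, 2, 1, 2, 3, 4, 5, 6, 2, 3,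 4, 7, 6, 2, 1, 0, 3, 4, 5, 8, 3, 1, 2, 6, 7, 4, 3, 2, 6, 5, 4, 3, 2, 1, 0, 1, 2, 3, 4, 5, 6, 2, 3, 4, 7, 6, 2, 1, 3, 8, 5, 4, 6, 1, 2, 3, 4, 5, 8, 0, 1, 2, 6, 3, 4, 2, 3, 1, 2, 6, 5, 4, 3, 2, 1, 0, 1, 2, 3, 4, 5, 6, 2, 1, 3, 2, 4, 3, 6, 2, 1, 0, 8, 5, 4, 3, 2, 1, 6, 3, 2, 6, 7, 4, 3, 1, 2, 6, 5, 4, 3, 2, 1, 0, 1, 2, 3, 4, 5, 6, 2, 1, 3, 4, 7, 6, 2, 3, 6, 7, 4, 3, 2, 6, 5, 4, 3, 2, 1, 0, 1, 2, 3, 4, 5, 6, 2, 3, 4, 7, 6, 4, 5, 8, 2, 3, 1, 2, 6, 7, 4, 3, 2, 6, 5, 4, 3, 2, 1, 2, 3, 4, 5, 6, 2, 3, 4, 7, 6, 2, 1, 3, 2, 8, 5, 4, 6, 2, 3, 4, 5, 8, 1, 2, 6, 3, 4, 2, 3, 1, 2, 6, 5, 4, 3, 2, 1, 0, 1, 2, 3, 4, 5, 6,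 2, 1, 3, 2, 4, 3, 6, 2, 1, 8, 5, 4, 3, 2, 6, 6, 2, 3, 4, 5, 8, 6, 2, 3, 1, 2, 6, 7, 3, 4, 2, 3, 1, 2, 6, 5, 4, 3, 2, 1, 0, 1, 2, 3, 4, 5, 6, 2, 1, 3, 2, 4, 3, 7, 6, 2, 1, 3, 2, 6, 8, 5, 4, 3, 2, 6, 8, 4, 2, 3, 0, 1, 2, 6, 7, 4, 3, 1, 2, 6, 5, 4, 3, 2, 1, 0, 1, 2, 3, 4, 5, 6, 2, 1, 3, 4, 7, 6, 2, 1, 0, 3, 2, 4, 8, 4, 3, 2, 6, 1, 2, 3, 4, 5, 8, 0, 1, 2, 6, 3, 4, 2, 3, 1, 2, 6, 5, 4, 3, 2, 1, 0, 1, 2, 3, 4, 5, 6, 2, 1, 3, 2, 4, 3, 6, 2, 1, 0, 8, 5, 4, 3, 2, 1, 6, 2, 3, 4, 8, 5, 4, 3, 2, 6, 1, 2, 3, 4, 5, 8, 0, 1, 2, 6, 3, 4, 2, 3, 1, 2, 6, 5, 4, 3, 2, 1, 0, 1, 2, 3, 4, 5, 6, 2, 1, 3, 2, 4, 3, 6, 2, 1, 0, 8,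 5, 4, 3, 2, 1, 6, 2, 3, 4, 5, 8])),
  ((3, 2), (1, [8, 1, 2, 6, 7, 3, 2, 6, 5, 4, 3, 2, 1, 0, 1, 2, 3, 4, 5, 6, 2, 3, 7, 6, 2, 1, 8, 4, 5, 8, 2, 3, 1, 2, 6, 7, 4, 3, 2, 6, 5, 4, 3, 2, 1, 0, 1, 2, 3, 4, 5, 6, 2, 3, 4, 7, 6, 2, 1, 3, 2, 8, 5, 4, 2, 3, 0, 1, 2, 6, 7, 4, 3, 2, 6, 5, 4, 3, 2, 1, 2, 3, 4, 5, 6, 2, 3, 4, 7, 6, 2, 1, 0, 3, 2, 2, 6, 1, 2, 3, 4, 5, 8, 0, 1, 2, 6, 3, 4, 2, 3, 1, 2, 6, 5, 4, 3, 2, 1, 0, 1, 2, 3, 4, 5, 6, 2, 1, 3, 2, 4, 3, 6, 2, 1, 0, 8, 5, 4, 3, 2, 1, 6, 2, 1, 2, 3, 4, 5, 8, 3, 0, 1, 2, 6, 7, 3, 4, 2, 3, 1, 2, 6, 5, 4, 3, 2, 1, 0, 1, 2, 3, 4, 5, 6, 2, 1, 3, 2, 4, 3, 7, 6, 2, 1, 0, 3,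 8, 5, 4, 3, 2, 1, 8, 4, 3, 2, 6, 7, 2, 3, 1, 2, 6, 5, 4, 3, 2, 1, 0, 1, 2, 3, 4, 5, 6, 2, 1, 3, 2, 7, 6, 2, 3, 4, 8, 4, 3, 2, 6, 1, 2, 3, 4, 5, 8, 0, 1, 2, 6, 3, 4, 2, 3, 1, 2, 6, 5, 4, 3, 2, 1, 0, 1, 2, 3, 4, 5, 6, 2, 1, 3, 2, 4, 3, 6, 2, 1, 0, 8, 5, 4, 3, 2, 1, 6, 2, 3, 4, 8, 5, 4, 3, 2, 6, 1, 2, 3, 4, 5, 8, 0, 1, 2, 6, 3, 4, 2, 3, 1, 2, 6, 5, 4, 3, 2, 1, 0, 1, 2, 3, 4, 5, 6, 2, 1, 3, 2, 4, 3, 6, 2, 1, 0, 8, 5, 4, 3, 2, 1, 6, 2, 3, 4, 5, 8, 6, 2, 3, 4, 5, 8, 5, 4, 2, 3, 1, 2, 6, 7, 3, 4, 2, 3, 1, 2, 6, 5, 4, 3, 2, 1, 0, 1, 2, 3, 4, 5, 6, 2, 1, 3, 2, 4, 3, 7, 6, 2, 1, 3, 2, 4, 5, 8, 5, 4, 3, 2, 6, 4, 5,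 8, 4, 2, 3, 1, 2, 6, 7, 4, 3, 1, 2, 6, 5, 4, 3, 2, 1, 0, 1, 2, 3, 4, 5, 6, 2, 1, 3, 4, 7, 6, 2, 1, 3, 2, 4, 8, 5, 4, 5, 4, 3, 2, 6, 1, 2, 3, 4, 5, 8, 0, 1, 2, 6, 3, 4, 2, 3, 1, 2, 6, 5, 4, 3, 2, 1, 0, 1, 2, 3, 4, 5, 6, 2, 1, 3, 2, 4, 3, 6, 2, 1, 0, 8, 5, 4, 3, 2, 1, 6, 2, 3, 4, 5, 8, 5, 4, 3, 2, 6, 1, 2, 3, 4, 5, 8, 0, 1, 2, 6, 3, 4, 2, 3, 1, 2, 6, 5, 4, 3, 2, 1, 0, 1, 2, 3, 4, 5, 6, 2, 1, 3, 2, 4, 3, 6, 2, 1, 0, 8, 5, 4, 3, 2, 1, 6, 2, 3, 4, 5, 8, 6, 2, 3, 4, 5, 8, 1, 2, 6, 3, 4, 2, 3, 1, 2, 6, 5, 4, 3, 2, 1, 0, 1, 2, 3, 4, 5, 6, 2, 1, 3, 2, 4, 3, 6, 2, 1, 8, 5, 4, 3, 2, 6, 4, 5, 8, 2, 3, 1, 2, 6, 7, 4,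 3, 2, 6, 5, 4, 3, 2, 1, 2, 3, 4, 5, 6, 2, 3, 4, 7, 6, 2, 1, 3, 2, 8, 5, 4, 6, 7, 4, 3, 2, 6, 5, 4, 3, 2, 1, 0, 1, 2, 3, 4, 5, 6, 2, 3, 4, 7, 6, 3, 2, 6, 7, 4, 3, 1, 2, 6, 5, 4, 3, 2, 1, 0, 1, 2, 3, 4, 5, 6, 2, 1, 3, 4, 7, 6, 2, 3, 3, 2, 6, 1, 2, 3, 4, 5, 8, 0, 1, 2, 6, 3, 4, 2, 3, 1, 2, 6, 5, 4, 3, 2, 1, 0, 1, 2, 3, 4, 5, 6, 2, 1, 3, 2, 4, 3, 6, 2, 1, 0, 8, 5, 4, 3, 2, 1, 6, 2, 3, 7, 1, 2, 6, 3, 4, 2, 3, 1, 2, 6, 5, 4, 3, 2, 1, 0, 1, 2, 3, 4, 5, 6, 2, 1, 3, 2, 4, 3, 6, 2, 1, 7, 8, 1, 2, 6, 7, 3, 2, 6, 5, 4, 3, 2, 1, 2, 3, 4, 5, 6, 2, 3, 7, 6, 2, 1, 8, 6, 2, 3, 1, 2, 6, 7, 4, 3, 2, 6, 5, 4, 3, 2, 1, 0, 1,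 2, 3, 4, 5, 6, 2, 3, 4, 7, 6, 2, 1, 3, 2, 6])),
  ((5, 1), (1, [6, 2, 3, 1, 2, 6, 5, 4, 3, 2, 1, 0, 1, 2, 3, 4, 5, 6, 2, 1, 3, 2, 6, 7, 6, 2, 3, 1, 2, 6, 5, 4, 3, 2, 1, 0, 1, 2, 3, 4, 5, 6, 2, 1, 3, 2, 6, 7, 8, 6, 4, 2, 3, 0, 1, 2, 6, 7, 3, 4, 2, 3, 1, 2, 6, 5, 4, 3, 2, 1, 0, 1, 2, 3, 4, 5, 6, 2, 1, 3, 2, 4, 3, 7, 6, 2, 1, 0, 3, 2, 4, 6, 8, 4, 5, 8, 6, 3, 4, 2, 3, 1, 2, 6, 7, 4, 2, 3, 1, 2, 6, 5, 4, 3, 2, 1, 0, 1, 2, 3, 4, 5, 6, 2, 1, 3, 2, 4, 7, 6, 2, 1, 3, 2, 4, 3, 6, 8, 5, 4, 1, 2, 3, 4, 5, 8, 0, 1, 2, 6, 3, 4, 2, 3, 1, 2, 6, 5, 4, 3, 2, 1, 0, 1, 2, 3, 4, 5, 6, 2, 1, 3, 2, 4, 3, 6, 2, 1, 0, 8, 5, 4, 3,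 2, 1, 3, 4, 5, 8, 7, 2, 6, 3, 4, 2, 3, 1, 2, 6, 5, 4, 3, 2, 1, 0, 1, 2, 3, 4, 5, 6, 2, 1, 3, 2, 4, 3, 6, 2, 7, 8, 5, 4, 3, 7, 4, 3, 2, 6, 5, 4, 3, 2, 1, 0, 1, 2, 3, 4, 5, 6, 2, 3, 4, 7, 0, 1, 2, 6, 7, 4, 2, 3, 1, 2, 6, 5, 4, 3, 2, 1, 0, 1, 2, 3, 4, 5, 6, 2, 1, 3, 2, 4, 7, 6, 2, 1, 0, 8, 5, 4, 3, 2, 6, 1, 2, 3, 4, 5, 8, 0, 1, 2, 6, 3, 4, 2, 3, 1, 2, 6, 5, 4, 3, 2, 1, 0, 1, 2, 3, 4, 5, 6, 2, 1, 3, 2, 4, 3, 6, 2, 1, 0, 8, 5, 4, 3, 2, 1, 6, 2, 3, 4, 5, 8, 4, 3, 2, 6, 1, 2, 3, 4, 5, 8, 0, 1, 2, 6, 3, 4, 2, 3, 1, 2, 6, 5, 4, 3, 2, 1, 0, 1, 2, 3, 4, 5, 6, 2, 1, 3, 2, 4, 3, 6, 2, 1, 0, 8, 5, 4, 3, 2, 1, 6, 2, 3,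 4, 1, 2, 3, 4, 5, 8, 6, 5, 4, 2, 3, 1, 2, 6, 7, 4, 3, 1, 2, 6, 5, 4, 3, 2, 1, 0, 1, 2, 3, 4, 5, 6, 2, 1, 3, 4, 7, 6, 2, 1, 3, 2, 4, 5, 6, 8, 5, 4, 3, 2, 1, 8, 5, 4, 3, 2, 6, 7, 6, 2, 3, 1, 2, 6, 5, 4, 3, 2, 1, 0, 1, 2, 3, 4, 5, 6, 2, 1, 3, 2, 6, 7, 6, 2, 3, 4, 5, 8, 6, 2, 3, 1, 2, 6, 4, 3, 2, 1, 0, 1, 2, 3, 4, 6, 2, 1, 3, 2, 6, 7, 6, 2, 3, 1, 2, 6, 4, 3, 2, 1, 0, 1, 2, 3, 4, 6, 2, 1, 3, 2, 6, 7, 5, 8, 3, 4, 2, 3, 1, 2, 6, 7, 6, 3, 4, 2, 3, 1, 2, 6, 5, 4, 3, 2, 1, 0, 1, 2, 3, 4, 5, 6, 2, 1, 3, 2, 4, 3, 6, 7, 6, 2, 1, 3, 2, 4, 3, 8, 5, 3, 4, 5, 8, 5, 4, 2, 3, 1, 2, 6, 7, 4, 2, 3, 1, 2, 6, 5, 4, 3, 2, 1, 0,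 1, 2, 3, 4, 5, 6, 2, 1, 3, 2, 4, 7, 6, 2, 1, 3, 2, 4, 5, 8, 5, 4, 3, 6, 2, 3, 4, 5, 8, 6, 2, 3, 1, 2, 6, 7, 3, 4, 2, 3, 1, 2, 6, 5, 4, 3, 2, 1, 0, 1, 2, 3, 4, 5, 6, 2, 1, 3, 2, 4, 3, 7, 6, 2, 1, 3, 2, 6, 8, 5, 4, 3, 2, 6, 8, 4, 2, 3, 0, 1, 2, 6, 7, 4, 3, 1, 2, 6, 5, 4, 3, 2, 1, 0, 1, 2, 3, 4, 5, 6, 2, 1, 3, 4, 7, 6, 2, 1, 0, 3, 2, 4, 8, 4, 3, 2, 6, 1, 2, 3, 4, 5, 8, 0, 1, 2, 6, 3, 4, 2, 3, 1, 2, 6, 5, 4, 3, 2, 1, 0, 1, 2, 3, 4, 5, 6, 2, 1, 3, 2, 4, 3, 6, 2, 1, 0, 8, 5, 4, 3, 2, 1, 6, 2, 3, 4, 8, 5, 4, 3, 2, 6, 1, 2, 3, 4, 5, 8, 0, 1, 2, 6, 3, 4, 2, 3, 1, 2, 6, 5, 4, 3, 2, 1, 0, 1, 2, 3, 4, 5, 6, 2, 1, 3,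 2, 4, 3, 6, 2, 1, 0, 8, 5, 4, 3, 2, 1, 6, 2, 3, 4, 5, 8])),
  ((5, 2), (1, [8, 5, 4, 3, 2, 6, 1, 2, 3, 4, 5, 8, 0, 1, 2, 6, 3, 4, 2, 3, 1, 2, 6, 5, 4, 3, 2, 1, 0, 1, 2, 3, 4, 5, 6, 2, 1, 3, 2, 4, 3, 6, 2, 1, 0, 8, 5, 4, 3, 2, 1, 6, 2, 3, 4, 5, 8, 4, 3, 2, 6, 1, 2, 3, 4, 5, 8, 0, 1, 2, 6, 3, 4, 2, 3, 1, 2, 6, 5, 4, 3, 2, 1, 0, 1, 2, 3, 4, 5, 6, 2, 1, 3, 2, 4, 3, 6, 2, 1, 0, 8, 5, 4, 3, 2, 1, 6, 2, 3, 4, 1, 2, 3, 4, 5, 8, 6, 5, 4, 2, 3, 1, 2, 6, 7, 4, 3, 1, 2, 6, 5, 4, 3, 2, 1, 0, 1, 2, 3, 4, 5, 6, 2, 1, 3, 4, 7, 6, 2, 1, 3, 2, 4, 5, 6, 8, 5, 4, 3, 2, 1, 8, 5, 4, 3, 2, 6, 7, 6, 2, 3, 1, 2, 6, 5, 4, 3, 2, 1,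 0, 1, 2, 3, 4, 5, 6, 2, 1, 3, 2, 6, 7, 6, 2, 3, 4, 5, 8, 6, 2, 3, 1, 2, 6, 7, 4, 3, 2, 6, 5, 4, 3, 2, 1, 0, 1, 2, 3, 4, 5, 6, 2, 3, 4, 7, 6, 2, 1, 3, 2, 6, 8, 1, 2, 6, 7, 3, 2, 6, 5, 4, 3, 2, 1, 2, 3, 4, 5, 6, 2, 3, 7, 6, 2, 1, 8, 7, 1, 2, 6, 3, 4, 2, 3, 1, 2, 6, 5, 4, 3, 2, 1, 0, 1, 2, 3, 4, 5, 6, 2, 1, 3, 2, 4, 3, 6, 2, 1, 7, 3, 2, 6, 1, 2, 3, 4, 5, 8, 0, 1, 2, 6, 3, 4, 2, 3, 1, 2, 6, 5, 4, 3, 2, 1, 0, 1, 2, 3, 4, 5, 6, 2, 1, 3, 2, 4, 3, 6, 2, 1, 0, 8, 5, 4, 3, 2, 1, 6, 2, 3, 2, 6, 1, 2, 3, 4, 5, 8, 0, 1, 2, 6, 3, 4, 2, 3, 1, 2, 6, 5, 4, 3, 2, 1, 0, 1, 2, 3, 4, 5, 6, 2, 1, 3, 2, 4, 3, 6, 2, 1, 0, 8, 5,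 4, 3, 2, 1, 6, 2, 2, 3, 0, 1, 2, 6, 7, 4, 3, 2, 6, 5, 4, 3, 2, 1, 2, 3, 4, 5, 6, 2, 3, 4, 7, 6, 2, 1, 0, 3, 2, 4, 5, 8, 2, 3, 1, 2, 6, 7, 4, 3, 2, 6, 5, 4, 3, 2, 1, 0, 1, 2, 3, 4, 5, 6, 2, 3, 4, 7, 6, 2, 1, 3, 2, 8, 5, 4, 8, 1, 2, 6, 7, 3, 2, 6, 5, 4, 3, 2, 1, 0, 1, 2, 3, 4, 5, 6, 2, 3, 7, 6, 2, 1, 8, 0, 8, 1, 2, 3, 4, 5, 8, 6, 2, 3, 1, 2, 6, 7, 4, 3, 2, 6, 5, 4, 3, 2, 1, 2, 3, 4, 5, 6, 2, 3, 4, 7, 6, 2, 1, 3, 2, 6, 8, 5, 4, 3, 2, 1, 3, 4, 5, 8, 2, 6, 3, 4, 2, 3, 1, 2, 6, 5, 4, 3, 2, 1, 0, 1, 2, 3, 4, 5, 6, 2, 1, 3, 2, 4, 3, 6, 2, 8, 5, 4, 3, 8, 3, 2, 6, 5, 4, 3, 2, 1, 2, 3, 4, 5, 6, 2, 3, 8, 8, 1, 2, 6,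 7, 6, 2, 3, 1, 2, 6, 5, 4, 3, 2, 1, 0, 1, 2, 3, 4, 5, 6, 2, 1, 3, 2, 6, 7, 6, 2, 1, 8, 0, 1])),
  ((6, 1), (2, [6, 1, 2, 3, 4, 5, 8, 0, 1, 2, 6, 3, 4, 2, 3, 1, 2, 6, 5, 4, 3, 2, 1, 0, 1, 2, 3, 4, 5, 6, 2, 1, 3, 2, 4, 3, 6, 2, 1, 0, 8, 5, 4, 3, 2, 1, 6, 4, 5, 8, 3, 1, 2, 6, 7, 4, 3, 2, 6, 5, 4, 3, 2, 1, 0, 1, 2, 3, 4, 5, 6, 2, 3, 4, 7, 6, 2, 1, 3, 8, 5, 4, 3, 0, 1, 2, 6, 7, 4, 3, 2, 6, 5, 4, 3, 2, 1, 2, 3, 4, 5, 6, 2, 3, 4, 7, 6, 2, 1, 0, 3, 0, 1, 2, 6, 7, 4, 3, 1, 2, 6, 5, 4, 3, 2, 1, 0, 1, 2, 3, 4, 5, 6, 2, 1, 3, 4, 7, 6, 2, 1, 0, 7, 0, 1, 0, 6, 2, 3, 1, 2, 6, 5, 4, 3, 2, 1, 0, 1, 2, 3, 4, 5, 6, 2, 1, 3,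 2, 6, 7, 6, 2, 3, 1, 2, 6, 5, 4, 3, 2, 1, 0, 1, 2, 3, 4, 5, 6, 2, 1, 3, 2, 6, 7, 8, 6, 4, 2, 3, 0, 1, 2, 6, 7, 3, 4, 2, 3, 1, 2, 6, 5, 4, 3, 2, 1, 0, 1, 2, 3, 4, 5, 6, 2, 1, 3, 2, 4, 3, 7, 6, 2, 1, 0, 3, 2, 4, 6, 8, 4, 5, 8, 6, 3, 4, 2, 3, 1, 2, 6, 7, 4, 2, 3, 1, 2, 6, 5, 4, 3, 2, 1, 0, 1, 2, 3, 4, 5, 6, 2, 1, 3, 2, 4, 7, 6, 2, 1, 3, 2, 4, 3, 6, 8, 5, 4, 1, 2, 3, 4, 5, 8, 6, 2, 3, 1, 2, 6, 7, 4, 3, 2, 6, 5, 4, 3, 2, 1, 2, 3, 4, 5, 6, 2, 3, 4, 7, 6, 2, 1, 3, 2, 6, 8, 5, 4, 3, 2, 1, 3, 4, 5, 8, 2, 6, 3, 4, 2, 3, 1, 2, 6, 5, 4, 3, 2, 1, 0, 1, 2, 3, 4, 5, 6, 2, 1, 3, 2, 4, 3, 6, 2, 8, 5, 4, 3, 8, 3, 2, 6, 5,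 4, 3, 2, 1, 2, 3, 4, 5, 6, 2, 3, 8, 8, 1, 2, 6, 7, 6, 2, 3, 1, 2, 6, 5, 4, 3, 2, 1, 0, 1, 2, 3, 4, 5, 6, 2, 1, 3, 2, 6, 7, 6, 2, 1, 8, 0, 3])),
  ((6, 2), (1, [1, 0, 0, 1, 2, 6, 7, 4, 3, 1, 2, 6, 5, 4, 3, 2, 1, 0, 1, 2, 3, 4, 5, 6, 2, 1, 3, 4, 7, 6, 2, 1, 0, 3, 0, 1, 2, 6, 7, 4, 3, 2, 6, 5, 4, 3, 2, 1, 2, 3, 4, 5, 6, 2, 3, 4, 7, 6, 2, 1, 0, 3, 4, 5, 8, 3, 1, 2, 6, 7, 4, 3, 2, 6, 5, 4, 3, 2, 1, 0, 1, 2, 3, 4, 5, 6, 2, 3, 4, 7, 6, 2, 1, 3, 8, 5, 4, 6, 1, 2, 3, 4, 5, 8, 0, 1, 2, 6, 3, 4, 2, 3, 1, 2, 6, 5, 4, 3, 2, 1, 0, 1, 2, 3, 4, 5, 6, 2, 1, 3, 2, 4, 3, 6, 2, 1, 0, 8, 5, 4, 3, 2, 1, 6, 0, 1, 2, 6, 7, 4, 2,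 3, 1, 2, 6, 5, 4, 3, 2, 1, 0, 1, 2, 3, 4, 5, 6, 2, 1, 3, 2, 4, 7, 6, 2, 1, 0, 7, 4, 3, 2, 6, 5, 4, 3, 2, 1, 0, 1, 2, 3, 4, 5, 6, 2, 3, 4, 7, 3, 4, 5, 8, 7, 2, 6, 3, 4, 2, 3, 1, 2, 6, 5, 4, 3, 2, 1, 0, 1, 2, 3, 4, 5, 6, 2, 1, 3, 2, 4, 3, 6, 2, 7, 8, 5, 4, 3, 1, 2, 3, 4, 5, 8, 0, 1, 2, 6, 3, 4, 2, 3, 1, 2, 6, 5, 4, 3, 2, 1, 0, 1, 2, 3, 4, 5, 6, 2, 1, 3, 2, 4, 3, 6, 2, 1, 0, 8, 5, 4, 3, 2, 1, 6, 2, 3, 1, 2, 6, 5, 4, 3, 2, 1, 0, 1, 2, 3, 4, 5, 6, 2, 1, 3, 2, 6, 7, 6, 2, 3, 1, 2, 6, 5, 4, 3, 2, 1, 0, 1, 2, 3, 4, 5, 6, 2, 1, 3, 2, 6, 7, 8, 3, 4, 2, 3, 1, 2, 6, 7, 6, 3, 4, 2, 3, 1, 2, 6, 5, 4, 3, 2, 1, 0, 1, 2,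 3, 4, 5, 6, 2, 1, 3, 2, 4, 3, 6, 7, 6, 2, 1, 3, 2, 4, 3, 8, 3, 4, 5, 8, 5, 4, 2, 3, 1, 2, 6, 7, 4, 2, 3, 1, 2, 6, 5, 4, 3, 2, 1, 0, 1, 2, 3, 4, 5, 6, 2, 1, 3, 2, 4, 7, 6, 2, 1, 3, 2, 4, 5, 8, 5, 4, 3, 8, 5, 4, 3, 2, 6, 1, 2, 3, 4, 5, 8, 0, 1, 2, 6, 3, 4, 2, 3, 1, 2, 6, 5, 4, 3, 2, 1, 0, 1, 2, 3, 4, 5, 6, 2, 1, 3, 2, 4, 3, 6, 2, 1, 0, 8, 5, 4, 3, 2, 1, 6, 2, 3, 4, 5, 8, 3, 4, 5, 8, 5, 4, 3, 2, 6, 7, 6, 3, 4, 2, 3, 1, 2, 6, 5, 4, 3, 2, 1, 0, 1, 2, 3, 4, 5, 6, 2, 1, 3, 2, 4, 3, 6, 7, 6, 2, 3, 4, 5, 8, 5, 4, 3, 4, 5, 8, 5, 4, 3, 1, 2, 6, 7, 4, 3, 1, 2, 6, 5, 4, 3, 2, 1, 0, 1, 2, 3, 4, 5, 6, 2, 1, 3, 4, 7, 6,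 2, 1, 3, 4, 5, 8, 5, 4, 4, 5, 8, 5, 4, 3, 0, 1, 2, 6, 7, 3, 4, 2, 3, 1, 2, 6, 5, 4, 3, 2, 1, 0, 1, 2, 3, 4, 5, 6, 2, 1, 3, 2, 4, 3, 7, 6, 2, 1, 0, 3, 4, 5, 8, 5, 4, 0, 1]))]

/-- the positions of the letters on the lines -/
def baseIdx : List ℕ := [1077, 1076, 1074, 1073, 1072, 1071, 1075, 1079, 1070]

end CfsgLib.OEightThree
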