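import Cfsg.Agent.Lib.Fi23OEight.Defs
import Cfsg.Agent.Lib.OEightThree.DataTrio
import Cfsg.Agent.Lib.OEightThree.DataGens
import Cfsg.Agent.Lib.OEightThree.DataUnip
import Cfsg.Agent.Lib.OEightThree.DataReps

/-!
Checks for the elements of order three in the plus type orthogonal group in dimension eight over three elements,
acting on three orbits of cosets of the presented group Fi23.
-/

set_option autoImplicit false

namespace CfsgLib.OEightThree

open CfsgLib.CosetEnum CfsgLib.Fi23Pres
open CfsgLib.Fi23OEight (at32 tWord addFresh orbMask orbPts outPt)

/-- the permutation of a generator on the three orbits -/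
noncomputable def trioTab (k : ℕ) : PTab :=
  [trioTab0, trioTab1, trioTab2, trioTab3, trioTab4, trioTab5, trioTab6, trioTab7, trioTab8,
    trioTab9].getD k trioTab0

/-- the permutation of a unipotent generator on the lines -/
noncomputable def lineTab (k : ℕ) : PTab :=
  [lineTab0, lineTab1, lineTab2, lineTab3, lineTab4, lineTab5, lineTab6, lineTab7, lineTab8, lineTab9,
    lineTab10, lineTab11, lineTab12, lineTab13, lineTab14, lineTab15, lineTab16, lineTab17].getD k lineTab0

/-- an image on the three orbits -/
noncomputable def tT (k i : ℕ) : ℕ := (trioTab k).at' (nat_lit 12) i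

/-- an image on the lines -/
noncomputable def lT (k i : ℕ) : ℕ := (lineTab k).at' (nat_lit 11) i

/-- the image under a word in the ten generators -/
noncomputable def wordAt (w : List ℕ) (i : ℕ) : ℕ :=
  List.rec (fun i => i) (fun g _ ih i => strict (ih i) fun j => tT g j) w i

/-- the image under a word in the unipotent generators -/
noncomputable def lineAt (w : List ℕ) (i : ℕ) : ℕ :=
  List.rec (fun i => i) (fun g _ ih i => strict (ih i) fun j => lT g j) w i

/-- the word of a generator of the ten in Fi23 -/
noncomputable def runWord (k : ℕ) : List ℕ := bif Nat.blt k 9 then [k + 1] else tWord outPt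

/-- the segment of an image -/
def segImg (k a : ℕ) : ℕ :=
  (bif Nat.blt k 9 then [0, 2, 1] else [2, 1, 0]).getD a 3

/-- the generators permute the three orbits -/
noncomputable def trioOK (k i : ℕ) : Bool :=
  strict (tT k i) fun j => Nat.blt j 3240 && Nat.beq (j / 1080) (segImg k (i / 1080)) &&
    Nat.beq (certA.run (at32 trio i) (certA.revInv (runWord k))) (at32 trio j)

/-- the three orbits make the orbit of transpositions -/
noncomputable def trioSetOK : Bool :=
  match addFresh ((List.range 3240).map fun i => at32 trio i) 0 with
  | some M => Nat.beq M orbMask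
  | none => false

/-- each point is joined to the first of its segment by even products -/
noncomputable def treeOK (i : ℕ) : Bool :=
  Nat.beq (i % 1080) 0 || (List.range 9).any fun k =>
    (strict (tT 0 (tT k i)) fun j => Nat.blt j i && Nat.beq (j / 1080) (i / 1080)) ||
      strict (tT k (tT 0 i)) fun j => Nat.blt j i && Nat.beq (j / 1080) (i / 1080)

/-- a unipotent generator in the ten generators -/
def uTen (k : ℕ) : List ℕ := (uWords.getD k []).map fun g => g - 1

/-- a word of a unipotent generator is even in the letters -/
def uShape (k : ℕ) : Bool :=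
  Nat.beq ((uTen k).length % 2) 0 && (uTen k).all fun g => Nat.blt g 9

/-- the words follow the permutations on the lines -/
noncomputable def uLineOK (k i : ℕ) : Bool :=
  strict (lT k i) fun j => Nat.blt j 1080 && Nat.beq (wordAt (uTen k) i) j

/-- two words agree on the lines of the letters -/
noncomputable def sameLine (v w : List ℕ) : Bool :=
  baseIdx.all fun b => Nat.beq (lineAt v b) (lineAt w b)

/-- the word of a digit expansion from a position on -/
def nfWord : ℕ → ℕ → ℕ → List ℕ
  | 0, _, _ => []
  | n + 1, off, c => List.replicate (c / 3 ^ n) off ++ nfWord n (off + 1) (c % 3 ^ n)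

/-- the word of the part modulo the abelian subgroup -/
def topW (y : ℕ) : List ℕ := nfWord 6 0 y

/-- the word in the abelian subgroup -/
def abW (v : ℕ) : List ℕ := nfWord 6 6 v

/-- the word of a list of exponents -/
def digWord (d : List ℕ) : List ℕ := (List.range 12).flatMap fun j => List.replicate (d.getD j 0) j

/-- conjugation by earlier generators -/
noncomputable def pcOK (i : ℕ) : Bool :=
  (List.range 12).all fun j => !(Nat.blt i j) ||
    let d := digWord ((pcConj.getD i []).getD j [])
    (d.all fun k => Nat.blt i k && Nat.blt k 12) && sameLine [i, j, i, i] d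

/-- a small orbit of the tail avoids an image under the head -/
noncomputable def orbitOK (i : ℕ) : Bool :=
  let L := tailOrbit.getD i []
  let b := L.getD 0 1080
  (L.all fun x => Nat.blt x 1080 && (List.range 12).all fun j =>
      !(Nat.blt i j) || L.any fun y => Nat.beq y (lT j x)) &&
    Nat.blt b 1080 && !(L.any fun y => Nat.beq y (lT i b))

/-- conjugation of the abelian subgroup -/
noncomputable def vOK (k : ℕ) : Bool :=
  (List.range 6).all fun j =>
    let c := (vConj.getD k []).getD j 729
    Nat.blt c 729 && sameLine [k, 6 + j, k, k] (abW c)

/-- the generators have order dividing three -/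
noncomputable def cubeOK (k : ℕ) : Bool := sameLine [k, k, k] []

/-- the abelian subgroup commutes -/
noncomputable def abOK : Bool :=
  (List.range 6).all fun i => (List.range 6).all fun j => sameLine [6 + i, 6 + j] [6 + j, 6 + i]

/-- the fusion record of a top part -/
noncomputable def fusOK (y : ℕ) : Bool :=
  match (fusRecs.getD (y / 81) []).getD (y % 81) (9, [], 0) with
  | (0, [y', v'], _) =>
    (List.range 6).any (fun j => !(sameLine (topW y' ++ [6 + j]) ([6 + j] ++ topW y'))) &&
      Nat.blt y' 729 && Nat.blt v' 729 && sameLine (topW y ++ topW y ++ topW y) (topW y' ++ abW v')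
  | (5, _, _) => Nat.beq y 0
  | (r, w, v) => Nat.blt r 5 && Nat.blt v 729 && (w.all fun k => Nat.blt k 18) &&
      sameLine (topW y ++ abW v ++ w) (w ++ topW (topReps.getD r 0))

/-- the witness for one element over a representative -/
noncomputable def leafOK (r c : ℕ) : Bool :=
  let e := ((leafRecs.getD r []).getD (c / 27) []).getD (c % 27) 16384
  let x := topW (topReps.getD r 0) ++ abW c
  let b := e % 4096
  match e / 4096 with
  | 0 => strict ([1070, 1071, 1072, 1073, 1074, 1075, 1076, 1077, 1079].getD b 1080) fun p =>
      Nat.blt p 1080 && !(Nat.beq (lineAt (x ++ x ++ x) p) p)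
  | 1 => Nat.blt b 3240 && bif Nat.blt b 1080 then Nat.beq (lineAt x b) b
      else Nat.beq (wordAt (x.flatMap uTen) b) b
  | 2 => sameLine x []
  | _ => false

/-- the number of fixed points of a word in a segment -/
noncomputable def fixCount (w : List ℕ) (a : ℕ) : ℕ :=
  (List.range 1080).countP fun i => strict (1080 * a + i) fun j => Nat.beq (wordAt w j) j

/-- a representative -/
def repW (b : ℕ) : List ℕ := repLets.getD b []

/-- a representative is even, fixes the base, has order three and the listed counts -/
noncomputable def repOK (b : ℕ) : Bool :=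
  let w := repW b
  Nat.beq (w.length % 2) 0 && (w.all fun g => Nat.blt g 9) && Nat.beq (wordAt w 0) 0 &&
    baseIdx.all fun x => Nat.beq (wordAt (w ++ w ++ w) x) x

/-- the count of a representative -/
def cntOf (b a : ℕ) : ℕ := (repCnt.getD b []).getD a 0

/-- the elements moving the first segment to the others -/
def uLetters (a : ℕ) : List ℕ := [[], [0, 9], [9]].getD a []

/-- a fusion of a symmetric representative -/
noncomputable def mergeOK (e : (ℕ × ℕ) × ℕ × List ℕ) : Bool :=
  let b := e.1.1
  let u := uLetters e.1.2
  let s := e.2.1
  let k := e.2.2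
  (Nat.beq s 1 || Nat.beq s 2) && Nat.beq (k.length % 2) 0 && (k.all fun g => Nat.blt g 9) &&
    baseIdx.all fun x => Nat.beq (wordAt (u ++ repW b ++ u.reverse) x)
      (wordAt (k ++ (List.replicate s (repW b)).flatten ++ k.reverse) x)

/-- the representatives of the classes in the simple group -/
def evenIdx : List (ℕ × ℕ) :=
  [(0, 0), (1, 0), (2, 0), (3, 0), (4, 0), (5, 0), (6, 0), (0, 1), (0, 2), (2, 1), (2, 2), (4, 1), (4, 2)]

end CfsgLib.OEightThree
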