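import Cfsg.Agent.Lib.Fi23OEight.Cent
import Cfsg.Agent.Lib.OEightThree.CheckTrio
import Cfsg.Agent.Lib.OEightThree.CheckLine0
import Cfsg.Agent.Lib.OEightThree.CheckLine1

/-!
The action of the D-subgroup of Fi23 with orthogonal Fitting subgroup on three orbits of 1080 cosets.
-/

set_option autoImplicit false
set_option maxRecDepth 100000

namespace CfsgLib.OEightThree

open CfsgLib.CosetEnum CfsgLib.Fi23Pres CfsgLib CfsgLib.Fi23OEight Cfsg.Spor
open CfsgLib.Fi23Inv (tr)
open CfsgLib.Fi23Cent (env)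

/-- the ten generators -/
noncomputable def tenGen (k : ℕ) : Fi23 := if k < 9 then gen (k + 1) else outGen

theorem tenGen_mem (k : ℕ) : tenGen k ∈ subTri := by
  unfold tenGen
  split_ifs with h
  · exact nine_le_tri (Subgroup.subset_closure ⟨k, h, rfl⟩)
  · exact out_mem

theorem tenGen_sq (k : ℕ) : tenGen k * tenGen k = 1 := by
  unfold tenGen
  split_ifs
  · exact gen_sq _
  · exact out_sq

theorem word_tri (w : List ℕ) : prodW tenGen w ∈ subTri :=
  Subgroup.list_prod_mem _ fun y hy => by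
    obtain ⟨a, -, rfl⟩ := List.mem_map.mp hy
    exact tenGen_mem a

theorem word_rev : ∀ w : List ℕ, prodW tenGen w.reverse = (prodW tenGen w)⁻¹
  | [] => by simp [prodW_nil]
  | a :: w => by
    rw [List.reverse_cons, prodW_append, word_rev w, prodW_cons, prodW_cons, prodW_nil, mul_one, mul_inv_rev,
      inv_eq_of_mul_eq_one_right (tenGen_sq a)]

theorem word_even : ∀ {w : List ℕ}, w.length % 2 = 0 → (∀ k ∈ w, k < 9) → prodW tenGen w ∈ subEven
  | [], _, _ => by rw [prodW_nil]; exact one_mem _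
  | [a], h, _ => by simp at h
  | a :: b :: w, h, hw => by
    obtain ⟨ha, hb, hw⟩ := List.forall_mem_cons.mp hw |>.imp_right List.forall_mem_cons.mp
    rw [prodW_cons, prodW_cons, ← mul_assoc]
    refine mul_mem ?_ (word_even (by simp at h; omega) hw)
    simp only [tenGen, if_pos ha, if_pos hb]
    exact pair_mem ha hb

theorem trio_mask : ((List.range 3240).map fun i => at32 trio i).Nodup ∧
    ∀ i < 3240, orbMask.testBit (at32 trio i) = true := by
  have h := trio_set
  unfold trioSetOK at h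
  split at h
  · rename_i M hM
    refine ⟨(addFresh_spec hM).1, fun i hi => ?_⟩
    rw [← Nat.eq_of_beq_eq_true h, (addFresh_spec hM).2.2]
    exact Or.inr (List.mem_map.mpr ⟨i, List.mem_range.mpr hi, rfl⟩)
  · simp at h

/-- the cosets of the three orbits -/
noncomputable def triCos (i : Fin 3240) : Fin certA.N :=
  ⟨at32 trio i, by
    have hc := all_closed
    rw [strict_eq] at hc
    have := List.all_eq_true.mp hc _ ((orbMask_spec _).mp (trio_mask.2 i i.2))
    simp only [closedAt, Bool.and_eq_true, Nat.blt_eq] at this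
    exact this.1⟩

theorem triCos_injective : Function.Injective triCos := by
  intro i j e
  exact Fin.ext ((trio_mask.1.getElem_inj_iff (i := i.val) (j := j.val) (hi := by simp)
    (hj := by simp)).mp (by simpa [triCos] using congrArg Fin.val e))

theorem ten_step {k : ℕ} (hk : k < 10) (i : Fin 3240) :
    ∃ j : Fin 3240, (j : ℕ) = tT k i ∧ rho (tenGen k) (triCos i) = triCos j ∧ j.1 / 1080 = segImg k (i.1 / 1080) := by
  have hall : ∀ k : Fin 10, (List.range 3240).all (trioOK k) = true := fun k => match k with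
    | ⟨0, _⟩ => trio_ok0
    | ⟨1, _⟩ => trio_ok1
    | ⟨2, _⟩ => trio_ok2
    | ⟨3, _⟩ => trio_ok3
    | ⟨4, _⟩ => trio_ok4
    | ⟨5, _⟩ => trio_ok5
    | ⟨6, _⟩ => trio_ok6
    | ⟨7, _⟩ => trio_ok7
    | ⟨8, _⟩ => trio_ok8
    | ⟨9, _⟩ => trio_ok9
    | ⟨n + 10, h⟩ => absurd h (by omega)
  have h := List.all_eq_true.mp (hall ⟨k, hk⟩) i (List.mem_range.mpr i.2)
  simp only [trioOK, strict_eq, Bool.and_eq_true, Nat.blt_eq] at h
  refine ⟨⟨tT k i, h.1.1⟩, rfl, Fin.ext ?_, Nat.eq_of_beq_eq_true h.1.2⟩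
  have hw : ∀ g ∈ runWord k, g < certA.K := by
    unfold runWord
    cases hb : Nat.blt k 9
    · rw [cond_false]; exact (env.dWord_spec ⟨outPt, out_lt⟩).1
    · rw [cond_true]
      rw [Nat.blt_eq] at hb
      exact fun g hg => List.mem_singleton.mp hg ▸ genK (by omega)
  have e : prodW gen (runWord k) = tenGen k := by
    unfold runWord tenGen
    by_cases hlt : k < 9
    · rw [show Nat.blt k 9 = true by rw [Nat.blt_eq]; exact hlt, cond_true, if_pos hlt, prodW_cons, prodW_nil, mul_one]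
    · rw [show Nat.blt k 9 = false by
        rw [Bool.eq_false_iff, Ne, Nat.blt_eq]; exact hlt, cond_false, if_neg hlt, out_word]
  rw [← e, setupA.rho_prodW hw]
  exact Nat.eq_of_beq_eq_true h.2

theorem ten_closure : Subgroup.closure {x : ↥subTri | ∃ k < 10, tenGen k = (x : Fi23)} = ⊤ := by
  have e : subTri = Subgroup.closure {y | ∃ k < 10, tenGen k = y} := by
    refine le_antisymm (sup_le ((Subgroup.closure_le _).mpr ?_) ((Subgroup.closure_le _).mpr ?_))
      ((Subgroup.closure_le _).mpr fun y ⟨k, _, e⟩ => e ▸ tenGen_mem k)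
    · rintro y ⟨k, hk, rfl⟩
      exact Subgroup.subset_closure ⟨k, by omega, if_pos hk⟩
    · rintro y rfl
      exact Subgroup.subset_closure ⟨9, by omega, if_neg (by omega)⟩
  rw [eq_top_iff]
  rintro ⟨x, hx⟩ -
  have hx' : x ∈ Subgroup.closure {y | ∃ k < 10, tenGen k = y} := e ▸ hx
  induction hx' using Subgroup.closure_induction with
  | mem y hy => exact Subgroup.subset_closure hy
  | one => exact one_mem _
  | mul a b ha hb iha ihb => exact mul_mem (iha (e ▸ ha)) (ihb (e ▸ hb))
  | inv a ha iha => exact inv_mem (iha (e ▸ ha))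

theorem exists_tri_action : ∃ φ : ↥subTri →* Equiv.Perm (Fin 3240),
    ∀ (g : ↥subTri) (i : Fin 3240), triCos (φ g i) = rho (g : Fi23) (triCos i) :=
  CfsgLib.Schur.exists_familyHom (fun (g : ↥subTri) x => rho (g : Fi23) x) triCos triCos_injective
    (fun i => by show rho ((1 : ↥subTri) : Fi23) (triCos i) = _; rw [OneMemClass.coe_one, map_one]; rfl)
    (fun g h i => by show rho ((g * h : ↥subTri) : Fi23) (triCos i) = _; rw [Subgroup.coe_mul, map_mul]; rfl)
    ten_closure (fun s ⟨k, hk, e⟩ i => by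
      obtain ⟨j, -, hj, -⟩ := ten_step hk i
      exact ⟨j, by rw [← hj, e]⟩)

/-- the action on the three orbits -/
noncomputable def triRho : ↥subTri →* Equiv.Perm (Fin 3240) := exists_tri_action.choose

theorem triRho_apply (g : ↥subTri) (i : Fin 3240) : triCos (triRho g i) = rho (g : Fi23) (triCos i) :=
  exists_tri_action.choose_spec g i

open _root_.Classical in
/-- the movement of a number -/
noncomputable def move (x : Fi23) (i : ℕ) : ℕ :=
  if h : x ∈ subTri ∧ i < 3240 then (triRho ⟨x, h.1⟩ ⟨i, h.2⟩ : ℕ) else i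

theorem move_def {x : Fi23} (hx : x ∈ subTri) (i : Fin 3240) : move x i = (triRho ⟨x, hx⟩ i : ℕ) :=
  dif_pos ⟨hx, i.2⟩

theorem move_lt {x : Fi23} {i : ℕ} (hi : i < 3240) : move x i < 3240 := by
  unfold move
  split_ifs
  · exact Fin.isLt _
  · exact hi

theorem move_one (i : ℕ) : move 1 i = i := by
  unfold move
  split_ifs with h
  · rw [show (⟨1, h.1⟩ : ↥subTri) = 1 from rfl, map_one]; rfl
  · rfl

theorem move_mul {x y : Fi23} (hx : x ∈ subTri) (hy : y ∈ subTri) {i : ℕ} (hi : i < 3240) :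
    move (x * y) i = move x (move y i) := by
  rw [move_def (mul_mem hx hy) ⟨i, hi⟩, move_def hy ⟨i, hi⟩, move_def hx,
    show (⟨x * y, mul_mem hx hy⟩ : ↥subTri) = ⟨x, hx⟩ * ⟨y, hy⟩ from rfl, map_mul]
  rfl

theorem move_inv {x : Fi23} (hx : x ∈ subTri) {i : ℕ} (hi : i < 3240) : move x⁻¹ (move x i) = i := by
  rw [← move_mul (inv_mem hx) hx hi, inv_mul_cancel, move_one]

theorem move_inj {x : Fi23} (hx : x ∈ subTri) {i j : ℕ} (hi : i < 3240) (hj : j < 3240)
    (h : move x i = move x j) : i = j := by rw [← move_inv hx hi, h, move_inv hx hj]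

theorem move_ten {k i : ℕ} (hk : k < 10) (hi : i < 3240) :
    move (tenGen k) i = tT k i ∧ tT k i / 1080 = segImg k (i / 1080) := by
  obtain ⟨j, e, hj, hs⟩ := ten_step hk ⟨i, hi⟩
  refine ⟨?_, e ▸ hs⟩
  rw [move_def (tenGen_mem k) ⟨i, hi⟩, ← e]
  exact congrArg Fin.val (triCos_injective ((triRho_apply _ _).trans hj))

theorem move_word : ∀ {w : List ℕ}, (∀ k ∈ w, k < 10) → ∀ {i : ℕ}, i < 3240 →
    move (prodW tenGen w) i = wordAt w i
  | [], _, i, _ => by rw [prodW_nil, move_one]; rfl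
  | a :: w, h, i, hi => by
    obtain ⟨ha, hw⟩ := List.forall_mem_cons.mp h
    rw [prodW_cons, move_mul (tenGen_mem a) (word_tri w) hi, move_word hw hi]
    have hlt : wordAt w i < 3240 := move_word hw hi ▸ move_lt hi
    rw [(move_ten ha hlt).1]
    show tT a (wordAt w i) = strict (wordAt w i) fun j => tT a j
    rw [strict_eq]

theorem orbCos_eq {i : ℕ} (hi : i < 1080) : triCos ⟨i, by omega⟩ = orbCos ⟨i, hi⟩ :=
  Fin.ext (Nat.eq_of_beq_eq_true (List.all_eq_true.mp trio_zero i (List.mem_range.mpr hi)))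

theorem base_lt {b : ℕ} (hb : b ∈ baseIdx) : b < 1080 := by
  have h := base_ok
  simp only [Bool.and_eq_true, List.all_eq_true, Nat.blt_eq, decide_eq_true_eq] at h
  exact h.2 b hb

theorem eq_one_of_base {x : Fi23} (hx : x ∈ subNine) (h : ∀ b ∈ baseIdx, move x b = b) : x = 1 := by
  have hgen : ∀ k < 9, Commute x (gen (k + 1)) := by
    intro k hk
    obtain ⟨c, hc, e⟩ := letter_coset (k := k + 1) (by omega)
    rw [← e]
    refine (env.fix_iff x c).mp ?_
    have hb := base_ok
    simp only [Bool.and_eq_true, List.all_eq_true, decide_eq_true_eq] at hb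
    have hbk := Nat.eq_of_beq_eq_true (hb.1 k (List.mem_range.mpr hk))
    have hlen : baseIdx.length = 9 := rfl
    set b := baseIdx.getD k 1080 with hbdef
    have hmem : b ∈ baseIdx := by
      rw [hbdef, List.getD_eq_getElem _ _ (by omega)]; exact List.getElem_mem _
    have hlt : b < 3240 := by have := base_lt hmem; omega
    have hcb : c = triCos ⟨b, hlt⟩ := Fin.ext (by
      show (c : ℕ) = at32 trio b
      rw [hbk, hc, List.getD_cons_succ])
    have hm := h b hmem
    rw [move_def (nine_le_tri hx) ⟨b, hlt⟩] at hm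
    rw [hcb]
    have := triRho_apply ⟨x, nine_le_tri hx⟩ ⟨b, hlt⟩
    rw [show triRho ⟨x, nine_le_tri hx⟩ ⟨b, hlt⟩ = ⟨b, hlt⟩ from Fin.ext hm] at this
    exact this.symm
  have hnine : ∀ y ∈ subNine, Commute x y := by
    intro y hy
    induction hy using Subgroup.closure_induction with
    | mem z hz => obtain ⟨k, hk, rfl⟩ := hz; exact hgen k hk
    | one => exact Commute.one_right x
    | mul _ _ _ _ h1 h2 => exact h1.mul_right h2
    | inv _ _ h1 => exact h1.inv_right
  have h0 : rho x (orbCos 0) = orbCos 0 := by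
    refine (env.fix_iff x (orbCos 0)).mpr ?_
    show Commute x (tr baseCos)
    rw [tr_base]
    exact hnine _ (subEight_le base_in_eight)
  refine eq_one_of_orbit fun i => ?_
  obtain ⟨g, hg, e⟩ := orbit_reach i
  rw [← e, ← Equiv.Perm.mul_apply, ← map_mul, (hnine g hg).eq, map_mul, Equiv.Perm.mul_apply, h0]

theorem eq_of_base {x y : Fi23} (hx : x ∈ subNine) (hy : y ∈ subNine)
    (h : ∀ b ∈ baseIdx, move x b = move y b) : x = y := by
  refine (inv_mul_eq_one.mp (eq_one_of_base (mul_mem (inv_mem hy) hx) fun b hb => ?_)).symm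
  have hlt : b < 3240 := by have := base_lt hb; omega
  rw [move_mul (inv_mem (nine_le_tri hy)) (nine_le_tri hx) hlt, h b hb, move_inv (nine_le_tri hy) hlt]

/-- a unipotent generator -/
noncomputable def uEl (k : ℕ) : Fi23 := if k < 18 then prodW tenGen (uTen k) else 1

theorem u_word {k : ℕ} (hk : k < 18) :
    (uTen k).length % 2 = 0 ∧ ∀ g ∈ uTen k, g < 9 := by
  have h : (List.range 18).all uShape = true := by decide +kernel
  have h' := List.all_eq_true.mp h k (List.mem_range.mpr hk)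
  simp only [uShape, Bool.and_eq_true, List.all_eq_true, Nat.blt_eq] at h'
  exact ⟨Nat.eq_of_beq_eq_true h'.1, h'.2⟩

theorem uEl_even (k : ℕ) : uEl k ∈ subEven := by
  unfold uEl
  split_ifs with hk
  · exact word_even (u_word hk).1 (u_word hk).2
  · exact one_mem _

theorem uProd_even (w : List ℕ) : prodW uEl w ∈ subEven :=
  Subgroup.list_prod_mem _ fun y hy => by
    obtain ⟨a, -, rfl⟩ := List.mem_map.mp hy
    exact uEl_even a

theorem uProd_nine (w : List ℕ) : prodW uEl w ∈ subNine := subEven_le (uProd_even w)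

theorem uProd_tri (w : List ℕ) : prodW uEl w ∈ subTri := even_le_tri (uProd_even w)

theorem uProd_flat : ∀ {w : List ℕ}, (∀ k ∈ w, k < 18) → prodW uEl w = prodW tenGen (w.flatMap uTen)
  | [], _ => by simp [prodW_nil]
  | a :: w, h => by
    obtain ⟨ha, hw⟩ := List.forall_mem_cons.mp h
    rw [prodW_cons, List.flatMap_cons, prodW_append, ← uProd_flat hw, uEl, if_pos ha]

theorem move_u {k i : ℕ} (hk : k < 18) (hi : i < 1080) : move (uEl k) i = lT k i ∧ lT k i < 1080 := by
  have hall : ∀ k : Fin 18, (List.range 1080).all (uLineOK k) = true := fun k => match k with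
    | ⟨0, _⟩ => line_ok0
    | ⟨1, _⟩ => line_ok1
    | ⟨2, _⟩ => line_ok2
    | ⟨3, _⟩ => line_ok3
    | ⟨4, _⟩ => line_ok4
    | ⟨5, _⟩ => line_ok5
    | ⟨6, _⟩ => line_ok6
    | ⟨7, _⟩ => line_ok7
    | ⟨8, _⟩ => line_ok8
    | ⟨9, _⟩ => line_ok9
    | ⟨10, _⟩ => line_ok10
    | ⟨11, _⟩ => line_ok11
    | ⟨12, _⟩ => line_ok12
    | ⟨13, _⟩ => line_ok13
    | ⟨14, _⟩ => line_ok14
    | ⟨15, _⟩ => line_ok15
    | ⟨16, _⟩ => line_ok16
    | ⟨17, _⟩ => line_ok17
    | ⟨n + 18, h⟩ => absurd h (by omega)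
  have h := List.all_eq_true.mp (hall ⟨k, hk⟩) i (List.mem_range.mpr hi)
  simp only [uLineOK, strict_eq, Bool.and_eq_true, Nat.blt_eq] at h
  refine ⟨?_, h.1⟩
  rw [uEl, if_pos hk, move_word (fun g hg => by have := (u_word hk).2 g hg; omega) (by omega)]
  exact Nat.eq_of_beq_eq_true h.2

theorem move_line : ∀ {w : List ℕ}, (∀ k ∈ w, k < 18) → ∀ {i : ℕ}, i < 1080 →
    move (prodW uEl w) i = lineAt w i ∧ lineAt w i < 1080
  | [], _, i, hi => ⟨by rw [prodW_nil, move_one]; rfl, hi⟩
  | a :: w, h, i, hi => by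
    obtain ⟨ha, hw⟩ := List.forall_mem_cons.mp h
    obtain ⟨e, hlt⟩ := move_line hw hi
    obtain ⟨e', hlt'⟩ := move_u ha hlt
    have hs : lineAt (a :: w) i = lT a (lineAt w i) := by
      show strict (lineAt w i) (fun j => lT a j) = _
      rw [strict_eq]
    rw [prodW_cons, move_mul (even_le_tri (uEl_even a)) (uProd_tri w) (by omega), e, hs]
    exact ⟨e', hlt'⟩

theorem same_eq {v w : List ℕ} (hv : ∀ k ∈ v, k < 18) (hw : ∀ k ∈ w, k < 18) (h : sameLine v w = true) :
    prodW uEl v = prodW uEl w :=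
  eq_of_base (uProd_nine v) (uProd_nine w) fun b hb => by
    rw [(move_line hv (base_lt hb)).1, (move_line hw (base_lt hb)).1]
    exact Nat.eq_of_beq_eq_true (List.all_eq_true.mp h b hb)

end CfsgLib.OEightThree
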