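import Cfsg.Agent.Lib.OEightThree.Move
import Cfsg.Agent.Lib.OEightThree.CheckUnip

/-!
A Sylow 3-subgroup of the orthogonal group and the fixed points of its elements of order three.
-/

set_option autoImplicit false
set_option maxRecDepth 100000

namespace CfsgLib.OEightThree

open CfsgLib.CosetEnum CfsgLib.Fi23Pres CfsgLib CfsgLib.Fi23OEight Cfsg.Spor
open scoped Pointwise

/-- the tails of the series -/
noncomputable def uSub (i : ℕ) : Subgroup Fi23 := Subgroup.closure {y | ∃ k, i ≤ k ∧ k < 12 ∧ uEl k = y}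

theorem uEl_in {i k : ℕ} (h1 : i ≤ k) (h2 : k < 12) : uEl k ∈ uSub i :=
  Subgroup.subset_closure ⟨k, h1, h2, rfl⟩

theorem uSub_even (i : ℕ) : uSub i ≤ subEven :=
  (Subgroup.closure_le _).mpr fun _ ⟨k, _, _, e⟩ => e ▸ uEl_even k

theorem uProd_in {i : ℕ} {w : List ℕ} (hw : ∀ k ∈ w, i ≤ k ∧ k < 12) : prodW uEl w ∈ uSub i :=
  Subgroup.list_prod_mem _ fun y hy => by
    obtain ⟨a, ha, rfl⟩ := List.mem_map.mp hy
    exact uEl_in (hw a ha).1 (hw a ha).2

theorem uEl_cube {k : ℕ} (hk : k < 18) : uEl k * uEl k * uEl k = 1 := by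
  have h := same_eq (v := [k, k, k]) (w := []) (by simp [hk]) (by simp)
    (List.all_eq_true.mp cube_ok k (List.mem_range.mpr hk))
  simpa [prodW_cons, prodW_nil, mul_assoc] using h

theorem uEl_inv {k : ℕ} (hk : k < 18) : (uEl k)⁻¹ = uEl k * uEl k :=
  inv_eq_of_mul_eq_one_right (by rw [← mul_assoc]; exact uEl_cube hk)

theorem uEl_pow (k n : ℕ) : prodW uEl (List.replicate n k) = uEl k ^ n := by
  simp [prodW, List.map_replicate, List.prod_replicate]

theorem conj_step {i j : ℕ} (hij : i < j) (hj : j < 12) : uEl i * uEl j * (uEl i)⁻¹ ∈ uSub (i + 1) := by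
  have h := List.all_eq_true.mp pc_ok i (List.mem_range.mpr (by omega))
  have h' := List.all_eq_true.mp h j (List.mem_range.mpr hj)
  rw [show Nat.blt i j = true by rw [Nat.blt_eq]; exact hij] at h'
  simp only [Bool.not_true, Bool.false_or, Bool.and_eq_true, List.all_eq_true, Nat.blt_eq] at h'
  obtain ⟨hd, hs⟩ := h'
  have e := same_eq (v := [i, j, i, i]) (by simp; omega) (fun k hk => by have := hd k hk; omega) hs
  simp only [prodW_cons, prodW_nil, mul_one] at e
  rw [uEl_inv (by omega), mul_assoc, e]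
  exact uProd_in fun k hk => ⟨(hd k hk).1, (hd k hk).2⟩

theorem norm_next {i : ℕ} (hi : i < 12) : Subgroup.zpowers (uEl i) ≤ Subgroup.normalizer (uSub (i + 1) : Set Fi23) := by
  rw [Subgroup.zpowers_le]
  have hle : (uSub (i + 1)).map (MulAut.conj (uEl i)).toMonoidHom ≤ uSub (i + 1) := by
    rw [uSub, MonoidHom.map_closure, Subgroup.closure_le]
    rintro _ ⟨_, ⟨k, hk1, hk2, rfl⟩, rfl⟩
    simp only [MulEquiv.coe_toMonoidHom, MulAut.conj_apply, SetLike.mem_coe]
    exact conj_step (by omega) hk2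
  have heq : (uSub (i + 1)).map (MulAut.conj (uEl i)).toMonoidHom = uSub (i + 1) :=
    Subgroup.eq_of_le_of_card_ge hle (by
      rw [Subgroup.card_map_of_injective (MulAut.conj (uEl i)).injective])
  rw [Subgroup.mem_normalizer_iff]
  intro h
  constructor
  · intro hh
    exact hle ⟨h, hh, rfl⟩
  · intro hh
    have hh' : uEl i * h * (uEl i)⁻¹ ∈ (uSub (i + 1)).map (MulAut.conj (uEl i)).toMonoidHom := by rw [heq]; exact hh
    obtain ⟨z, hz, ez⟩ := hh'
    obtain rfl : z = h := (MulAut.conj (uEl i)).injective ez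
    exact hz

theorem uSub_mem {i : ℕ} (hi : i < 12) {x : Fi23} (hx : x ∈ uSub i) :
    ∃ e < 3, ∃ t ∈ uSub (i + 1), x = uEl i ^ e * t := by
  have hle : uSub i ≤ Subgroup.zpowers (uEl i) ⊔ uSub (i + 1) := by
    refine (Subgroup.closure_le _).mpr ?_
    rintro _ ⟨k, hk1, hk2, rfl⟩
    rcases Nat.eq_or_lt_of_le hk1 with rfl | hlt
    · exact Subgroup.mem_sup_left (Subgroup.mem_zpowers _)
    · exact Subgroup.mem_sup_right (uEl_in hlt hk2)
  have hx' : x ∈ (↑(Subgroup.zpowers (uEl i) ⊔ uSub (i + 1)) : Set Fi23) := hle hx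
  rw [Subgroup.coe_mul_of_left_le_normalizer_right _ _ (norm_next hi)] at hx'
  obtain ⟨a, ha, t, ht, rfl⟩ := Set.mem_mul.mp hx'
  obtain ⟨n, rfl⟩ := (Submonoid.mem_powers_iff _ _).mp ((mem_powers_iff_mem_zpowers).mpr ha)
  refine ⟨n % 3, Nat.mod_lt _ (by norm_num), t, ht, ?_⟩
  rw [pow_eq_pow_mod n (show uEl i ^ 3 = 1 by rw [pow_succ, pow_two]; exact uEl_cube (by omega))]

theorem uEl_not_next {i : ℕ} (hi : i < 12) : uEl i ∉ uSub (i + 1) := by
  intro hmem
  have h := List.all_eq_true.mp orbit_ok i (List.mem_range.mpr hi)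
  simp only [orbitOK, Bool.and_eq_true, List.all_eq_true, Bool.not_eq_true', List.mem_range] at h
  obtain ⟨⟨hcl, hb⟩, hout⟩ := h
  rw [Nat.blt_eq] at hb
  set L := tailOrbit.getD i [] with hL
  set b := L.getD 0 1080 with hbdef
  have hbL : b ∈ L := by
    rcases L with _ | ⟨a, l⟩
    · simp [hbdef] at hb
    · simp [hbdef]
  have hkeep : ∀ g ∈ uSub (i + 1), ∀ x ∈ L, move g x ∈ L ∧ move g⁻¹ x ∈ L := by
    intro g hg
    induction hg using Subgroup.closure_induction with
    | mem y hy =>
      obtain ⟨j, hj1, hj2, rfl⟩ := hy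
      have hst : ∀ x ∈ L, x < 1080 ∧ move (uEl j) x ∈ L := by
        intro x hx
        obtain ⟨hlt, hc⟩ := hcl x hx
        rw [Nat.blt_eq] at hlt
        have hc' := hc j hj2
        rw [show Nat.blt i j = true by rw [Nat.blt_eq]; omega] at hc'
        simp only [Bool.not_true, Bool.false_or, List.any_eq_true] at hc'
        obtain ⟨y, hy, e⟩ := hc'
        exact ⟨hlt, by rw [(move_u (by omega) hlt).1, ← Nat.eq_of_beq_eq_true e]; exact hy⟩
      intro x hx
      refine ⟨(hst x hx).2, ?_⟩
      obtain ⟨h1, h2⟩ := hst x hx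
      rw [uEl_inv (by omega), move_mul (even_le_tri (uEl_even j)) (even_le_tri (uEl_even j)) (by omega)]
      exact (hst _ h2).2
    | one => intro x hx; rw [inv_one, move_one]; exact ⟨hx, hx⟩
    | mul a c ha hc iha ihc =>
      intro x hx
      have hlt : x < 3240 := by have := (hcl x hx).1; rw [Nat.blt_eq] at this; omega
      have ha' := even_le_tri (uSub_even _ ha)
      have hc' := even_le_tri (uSub_even _ hc)
      rw [mul_inv_rev, move_mul ha' hc' hlt, move_mul (inv_mem hc') (inv_mem ha') hlt]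
      exact ⟨(iha _ (ihc x hx).1).1, (ihc _ (iha x hx).2).2⟩
    | inv a _ iha => intro x hx; rw [inv_inv]; exact (iha x hx).symm
  have h1 := (hkeep _ hmem b hbL).1
  rw [(move_u (by omega) hb).1] at h1
  have h2 : (L.any fun y => Nat.beq y (lT i b)) = true :=
    List.any_eq_true.mpr ⟨_, h1, Nat.beq_refl _⟩
  rw [hout] at h2
  simp at h2

theorem uSub_card : ∀ n i : ℕ, i + n = 12 → Nat.card (uSub i) = 3 ^ n
  | 0, i, h => by
    have : uSub i = ⊥ := by
      rw [uSub, eq_bot_iff, Subgroup.closure_le]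
      rintro _ ⟨k, hk1, hk2, rfl⟩
      omega
    rw [this, Subgroup.card_bot, pow_zero]
  | n + 1, i, h => by
    classical
    have hi : i < 12 := by omega
    let f : Fin 3 × ↥(uSub (i + 1)) → ↥(uSub i) := fun p =>
      ⟨uEl i ^ (p.1 : ℕ) * p.2, mul_mem (pow_mem (uEl_in le_rfl hi) _) (by
        have hle : uSub (i + 1) ≤ uSub i := Subgroup.closure_mono fun y ⟨k, h1, h2, e⟩ => ⟨k, by omega, h2, e⟩
        exact hle p.2.2)⟩
    have hsur : Function.Surjective f := by
      rintro ⟨x, hx⟩
      obtain ⟨e, he, t, ht, rfl⟩ := uSub_mem hi hx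
      exact ⟨(⟨e, he⟩, ⟨t, ht⟩), rfl⟩
    have hinj : Function.Injective f := by
      rintro ⟨a, s⟩ ⟨b, t⟩ e
      have e' : uEl i ^ (a : ℕ) * (s : Fi23) = uEl i ^ (b : ℕ) * (t : Fi23) := congrArg Subtype.val e
      have key : ∀ a b : Fin 3, ∀ s t : ↥(uSub (i + 1)), uEl i ^ (a : ℕ) * (s : Fi23) = uEl i ^ (b : ℕ) * (t : Fi23) →
          a ≤ b → a = b := by
        intro a b s t e hab
        by_contra hne
        have hd : (b : ℕ) - a = 1 ∨ (b : ℕ) - a = 2 := by omega
        have hm : uEl i ^ ((b : ℕ) - a) ∈ uSub (i + 1) := by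
          rw [show (b : ℕ) = a + ((b : ℕ) - a) by omega, pow_add, mul_assoc] at e
          have e2 := mul_left_cancel e
          rw [show uEl i ^ ((b : ℕ) - a) = (s : Fi23) * (t : Fi23)⁻¹ by rw [e2, mul_inv_cancel_right]]
          exact mul_mem s.2 (inv_mem t.2)
        rcases hd with hd | hd <;> rw [hd] at hm
        · exact uEl_not_next hi (by simpa using hm)
        · rw [pow_two, ← uEl_inv (by omega)] at hm
          exact uEl_not_next hi (by simpa using inv_mem hm)
      have hab : a = b := by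
        rcases le_total a b with h' | h'
        · exact key a b s t e' h'
        · exact (key b a t s e'.symm h').symm
      subst hab
      obtain rfl : s = t := Subtype.ext (mul_left_cancel e')
      rfl
    rw [← Nat.card_congr (Equiv.ofBijective f ⟨hinj, hsur⟩), Nat.card_prod, Nat.card_fin,
      uSub_card n (i + 1) (by omega), pow_succ']

theorem nf_range : ∀ (n off c : ℕ), ∀ k ∈ nfWord n off c, off ≤ k ∧ k < off + n
  | 0, _, _, k, hk => by simp [nfWord] at hk
  | n + 1, off, c, k, hk => by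
    simp only [nfWord, List.mem_append, List.mem_replicate] at hk
    rcases hk with ⟨-, rfl⟩ | hk
    · omega
    · have := nf_range n (off + 1) _ k hk; omega

theorem uSub_form : ∀ (n off : ℕ), off + n ≤ 12 → ∀ {x : Fi23}, x ∈ uSub off →
    ∃ c < 3 ^ n, ∃ t ∈ uSub (off + n), x = prodW uEl (nfWord n off c) * t
  | 0, off, _, x, hx => ⟨0, by norm_num, x, hx, by simp [nfWord, prodW_nil]⟩
  | n + 1, off, h, x, hx => by
    obtain ⟨e, he, t, ht, rfl⟩ := uSub_mem (by omega) hx
    obtain ⟨c, hc, s, hs, rfl⟩ := uSub_form n (off + 1) (by omega) ht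
    have hp : 0 < 3 ^ n := Nat.pow_pos (by norm_num)
    refine ⟨e * 3 ^ n + c, ?_, s, by rwa [show off + (n + 1) = off + 1 + n by omega], ?_⟩
    · calc e * 3 ^ n + c < e * 3 ^ n + 3 ^ n := by omega
        _ = (e + 1) * 3 ^ n := by ring
        _ ≤ 3 * 3 ^ n := Nat.mul_le_mul_right _ he
        _ = 3 ^ (n + 1) := by ring
    · rw [nfWord, Nat.mul_add_mod_self_right, Nat.mod_eq_of_lt hc,
        Nat.add_comm (e * 3 ^ n) c, Nat.add_mul_div_right _ _ hp, Nat.div_eq_of_lt hc, Nat.zero_add,
        prodW_append, uEl_pow, mul_assoc]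

/-- the abelian subgroup -/
noncomputable def vSub : Subgroup Fi23 := uSub 6

theorem abW_mem (c : ℕ) : prodW uEl (abW c) ∈ vSub :=
  uProd_in fun k hk => by have := nf_range 6 6 c k hk; omega

theorem vSub_form {x : Fi23} (hx : x ∈ vSub) : ∃ c < 729, x = prodW uEl (abW c) := by
  obtain ⟨c, hc, t, ht, rfl⟩ := uSub_form 6 6 (by norm_num) hx
  have : uSub 12 = ⊥ := by
    rw [uSub, eq_bot_iff, Subgroup.closure_le]
    rintro _ ⟨k, hk1, hk2, rfl⟩
    omega
  rw [this, Subgroup.mem_bot] at ht
  subst ht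
  exact ⟨c, by simpa using hc, by rw [mul_one]; rfl⟩

theorem top_range (y : ℕ) : ∀ k ∈ topW y, k < 18 := fun k hk => by have := nf_range 6 0 y k hk; omega

theorem ab_range (v : ℕ) : ∀ k ∈ abW v, k < 18 := fun k hk => by have := nf_range 6 6 v k hk; omega

theorem v_conj {k : ℕ} (hk : k < 18) {x : Fi23} (hx : x ∈ vSub) : uEl k * x * (uEl k)⁻¹ ∈ vSub := by
  have hle : vSub.map (MulAut.conj (uEl k)).toMonoidHom ≤ vSub := by
    rw [vSub, uSub, MonoidHom.map_closure, Subgroup.closure_le]
    rintro _ ⟨_, ⟨m, hm1, hm2, rfl⟩, rfl⟩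
    have h := List.all_eq_true.mp v_ok k (List.mem_range.mpr hk)
    have h' := List.all_eq_true.mp h (m - 6) (List.mem_range.mpr (by omega))
    simp only [Bool.and_eq_true] at h'
    rw [show 6 + (m - 6) = m by omega] at h'
    have e := same_eq (v := [k, m, k, k]) (by simp; omega) (ab_range _) h'.2
    simp only [prodW_cons, prodW_nil, mul_one] at e
    simp only [MulEquiv.coe_toMonoidHom, MulAut.conj_apply, SetLike.mem_coe, uEl_inv hk]
    rw [mul_assoc, e]
    exact abW_mem _
  exact hle ⟨x, hx, rfl⟩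

theorem v_conj_word : ∀ {w : List ℕ}, (∀ k ∈ w, k < 18) → ∀ {x : Fi23}, x ∈ vSub →
    prodW uEl w * x * (prodW uEl w)⁻¹ ∈ vSub ∧ (prodW uEl w)⁻¹ * x * prodW uEl w ∈ vSub
  | [], _, x, hx => by simpa [prodW_nil] using hx
  | a :: w, h, x, hx => by
    obtain ⟨ha, hw⟩ := List.forall_mem_cons.mp h
    constructor
    · have := v_conj ha (v_conj_word hw hx).1
      simpa [prodW_cons, mul_assoc] using this
    · have := (v_conj_word hw (v_conj ha (v_conj ha hx))).2
      have e : (uEl a)⁻¹ = uEl a * uEl a := uEl_inv ha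
      have e2 : uEl a = (uEl a)⁻¹ * (uEl a)⁻¹ := by rw [← mul_inv_rev, ← e, inv_inv]
      rw [prodW_cons, mul_inv_rev]
      convert this using 1
      conv_rhs => rw [show uEl a * (uEl a * x * (uEl a)⁻¹) * (uEl a)⁻¹ =
        uEl a * uEl a * x * ((uEl a)⁻¹ * (uEl a)⁻¹) by group, ← e, ← e2]
      group

theorem v_comm {a b : Fi23} (ha : a ∈ vSub) (hb : b ∈ vSub) : Commute a b := by
  have key : ∀ i j, 6 ≤ i → i < 12 → 6 ≤ j → j < 12 → Commute (uEl i) (uEl j) := by
    intro i j h1 h2 h3 h4
    have h := ab_ok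
    simp only [abOK, List.all_eq_true, List.mem_range] at h
    have h' := h (i - 6) (by omega) (j - 6) (by omega)
    rw [show 6 + (i - 6) = i by omega, show 6 + (j - 6) = j by omega] at h'
    have e := same_eq (v := [i, j]) (w := [j, i]) (by simp; omega) (by simp; omega) h'
    simp only [prodW_cons, prodW_nil, mul_one] at e
    exact e
  have step : ∀ j, 6 ≤ j → j < 12 → Commute a (uEl j) := by
    intro j h3 h4
    induction ha using Subgroup.closure_induction with
    | mem y hy => obtain ⟨i, h1, h2, rfl⟩ := hy; exact key i j h1 h2 h3 h4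
    | one => exact Commute.one_left _
    | mul _ _ _ _ p q => exact p.mul_left q
    | inv _ _ p => exact p.inv_left
  induction hb using Subgroup.closure_induction with
  | mem y hy => obtain ⟨j, h3, h4, rfl⟩ := hy; exact step j h3 h4
  | one => exact Commute.one_right _
  | mul _ _ _ _ p q => exact p.mul_right q
  | inv _ _ p => exact p.inv_right

theorem fus_split {y : ℕ} (hy : y < 729) :
    y = 0 ∨
    (∃ y' v', prodW uEl (topW y') ∉ vSub ∧ v' < 729 ∧
      prodW uEl (topW y) * prodW uEl (topW y) * prodW uEl (topW y) = prodW uEl (topW y') * prodW uEl (abW v')) ∨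
    ∃ r, r < 5 ∧ ∃ v w, (∀ k ∈ w, k < 18) ∧
      prodW uEl (topW y) * prodW uEl (abW v) * prodW uEl w = prodW uEl w * prodW uEl (topW (topReps.getD r 0)) := by
  have h := List.all_eq_true.mp fus_ok y (List.mem_range.mpr hy)
  unfold fusOK at h
  split at h
  · rename_i y' v' _ _
    simp only [Bool.and_eq_true, List.any_eq_true, List.mem_range, Bool.not_eq_true', Nat.blt_eq] at h
    obtain ⟨⟨⟨⟨j, hj, hne⟩, -⟩, hv⟩, hs⟩ := h
    refine Or.inr (Or.inl ⟨y', v', fun hmem => ?_, hv, ?_⟩)
    · have hc : sameLine (topW y' ++ [6 + j]) ([6 + j] ++ topW y') = true := by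
        refine List.all_eq_true.mpr fun b hb => ?_
        have e : prodW uEl (topW y' ++ [6 + j]) = prodW uEl ([6 + j] ++ topW y') := by
          rw [prodW_append, prodW_append, prodW_cons, prodW_nil, mul_one]
          exact v_comm hmem (uEl_in (by omega) (by omega))
        rw [← (move_line (fun k hk => ?_) (base_lt hb)).1, e, (move_line (fun k hk => ?_) (base_lt hb)).1]
        · exact Nat.beq_refl _
        · simp only [List.mem_append, List.mem_singleton] at hk
          rcases hk with hk | hk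
          · omega
          · exact top_range y' k hk
        · simp only [List.mem_append, List.mem_singleton] at hk
          rcases hk with hk | hk
          · exact top_range y' k hk
          · omega
      rw [hne] at hc
      simp at hc
    · have e := same_eq (fun k hk => ?_) (fun k hk => ?_) hs
      · rw [prodW_append, prodW_append, prodW_append] at e
        exact e
      · simp only [List.mem_append, or_self] at hk; exact top_range y k hk
      · simp only [List.mem_append] at hk
        rcases hk with hk | hk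
        · exact top_range y' k hk
        · exact ab_range v' k hk
  · exact Or.inl (Nat.eq_of_beq_eq_true h)
  · rename_i r w v _ _ _
    simp only [Bool.and_eq_true, List.all_eq_true, Nat.blt_eq] at h
    obtain ⟨⟨⟨hr, -⟩, hw⟩, hs⟩ := h
    refine Or.inr (Or.inr ⟨r, hr, v, w, hw, ?_⟩)
    have e := same_eq (fun k hk => ?_) (fun k hk => ?_) hs
    · rwa [prodW_append, prodW_append, prodW_append] at e
    · simp only [List.mem_append] at hk
      rcases hk with (hk | hk) | hk
      · exact top_range y k hk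
      · exact ab_range v k hk
      · exact hw k hk
    · simp only [List.mem_append] at hk
      rcases hk with hk | hk
      · exact hw k hk
      · exact top_range _ k hk

theorem v_cube_coset {z a : Fi23} (hz : ∀ c ∈ vSub, z * c * z⁻¹ ∈ vSub) (ha : a ∈ vSub) :
    ∃ c ∈ vSub, z * a * (z * a) * (z * a) = c * (z * z * z) := by
  refine ⟨z * a * z⁻¹ * (z * (z * a * z⁻¹) * z⁻¹) * (z * (z * (z * a * z⁻¹) * z⁻¹) * z⁻¹),
    mul_mem (mul_mem (hz a ha) (hz _ (hz a ha))) (hz _ (hz _ (hz a ha))), by group⟩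

theorem leaf_fix {r c : ℕ} (hr : r < 5) (hc : c < 729)
    (h3 : (prodW uEl (topW (topReps.getD r 0)) * prodW uEl (abW c)) ^ 3 = 1)
    (h1 : prodW uEl (topW (topReps.getD r 0)) * prodW uEl (abW c) ≠ 1) :
    ∃ i < 3240, move (prodW uEl (topW (topReps.getD r 0)) * prodW uEl (abW c)) i = i := by
  have hall : ∀ r : Fin 5, (List.range 729).all (leafOK r) = true := fun r => match r with
    | ⟨0, _⟩ => leaf_ok0
    | ⟨1, _⟩ => leaf_ok1
    | ⟨2, _⟩ => leaf_ok2
    | ⟨3, _⟩ => leaf_ok3
    | ⟨4, _⟩ => leaf_ok4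
    | ⟨n + 5, h⟩ => absurd h (by omega)
  have h := List.all_eq_true.mp (hall ⟨r, hr⟩) c (List.mem_range.mpr hc)
  rw [← prodW_append] at h3 h1 ⊢
  have hw : ∀ k ∈ topW (topReps.getD r 0) ++ abW c, k < 18 := fun k hk => by
    rcases List.mem_append.mp hk with hk | hk
    · exact top_range _ k hk
    · exact ab_range c k hk
  unfold leafOK at h
  simp only at h
  generalize ((leafRecs.getD r []).getD (c / 27) []).getD (c % 27) 16384 = e at h
  set x := topW (topReps.getD r 0) ++ abW c with hx
  split at h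
  · simp only [strict_eq, Bool.and_eq_true, Nat.blt_eq, Bool.not_eq_true'] at h
    exfalso
    refine Nat.ne_of_beq_eq_false h.2 ?_
    have hxx : ∀ k ∈ x ++ x ++ x, k < 18 := fun k hk => by
      simp only [List.mem_append, or_self] at hk; exact hw k hk
    rw [← (move_line hxx h.1).1, prodW_append, prodW_append,
      show prodW uEl x * prodW uEl x * prodW uEl x = 1 by rw [← h3, pow_succ, pow_two], move_one]
  · simp only [Bool.and_eq_true, Nat.blt_eq] at h
    refine ⟨e % 4096, h.1, ?_⟩
    by_cases hb : e % 4096 < 1080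
    · rw [show Nat.blt (e % 4096) 1080 = true by rw [Nat.blt_eq]; exact hb, cond_true] at h
      rw [(move_line hw hb).1]
      exact Nat.eq_of_beq_eq_true h.2
    · rw [show Nat.blt (e % 4096) 1080 = false by rw [Bool.eq_false_iff, Ne, Nat.blt_eq]; exact hb,
        cond_false] at h
      rw [uProd_flat hw, move_word (fun g hg => ?_) h.1]
      · exact Nat.eq_of_beq_eq_true h.2
      · obtain ⟨a, ha, hga⟩ := List.mem_flatMap.mp hg
        have := (u_word (hw a ha)).2 g hga
        omega
  · exact absurd (same_eq hw (by simp) h) (by simpa [prodW_nil] using h1)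
  · simp at h

theorem top_norm (y : ℕ) : ∀ c ∈ vSub, prodW uEl (topW y) * c * (prodW uEl (topW y))⁻¹ ∈ vSub :=
  fun _ hc => (v_conj_word (top_range y) hc).1

theorem fix_of_top {r : ℕ} (hr : r < 5) {a : Fi23} (ha : a ∈ vSub)
    (h3 : (prodW uEl (topW (topReps.getD r 0)) * a) ^ 3 = 1)
    (h1 : prodW uEl (topW (topReps.getD r 0)) * a ≠ 1) :
    ∃ i < 3240, move (prodW uEl (topW (topReps.getD r 0)) * a) i = i := by
  obtain ⟨c, hc, rfl⟩ := vSub_form ha
  exact leaf_fix hr hc h3 h1

/-- An element of order three in the Sylow subgroup fixes one of the points. -/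
theorem sylow_fix {x : Fi23} (hx : x ∈ uSub 0) (h3 : x ^ 3 = 1) (h1 : x ≠ 1) :
    ∃ i < 3240, move x i = i := by
  obtain ⟨y, hy, t, ht, rfl⟩ := uSub_form 6 0 (by norm_num) hx
  change t ∈ vSub at ht
  change (prodW uEl (topW y) * t) ^ 3 = 1 at h3
  change prodW uEl (topW y) * t ≠ 1 at h1
  show ∃ i < 3240, move (prodW uEl (topW y) * t) i = i
  rcases fus_split (show y < 729 by simpa using hy) with rfl | ⟨y', v', hn, -, e⟩ | ⟨r, hr, v, w, hw, e⟩
  · exact fix_of_top (r := 0) (by norm_num) ht h3 h1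
  · exfalso
    obtain ⟨c, hc, ec⟩ := v_cube_coset (top_norm y) ht
    rw [pow_succ, pow_two, ec, e, ← mul_assoc, mul_eq_one_iff_eq_inv] at h3
    refine hn ?_
    have : prodW uEl (topW y') = c⁻¹ * (prodW uEl (abW v'))⁻¹ := by rw [← h3]; group
    rw [this]
    exact mul_mem (inv_mem hc) (inv_mem (abW_mem v'))
  · set L := prodW uEl w
    set p := prodW uEl (topW y)
    set q := prodW uEl (topW (topReps.getD r 0))
    set b := (prodW uEl (abW v))⁻¹ * t
    have hb : L⁻¹ * b * L ∈ vSub := (v_conj_word hw (mul_mem (inv_mem (abW_mem v)) ht)).2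
    have hq : q = L⁻¹ * (p * prodW uEl (abW v) * L) := by rw [e]; group
    have hp : q * (L⁻¹ * b * L) = L⁻¹ * (p * t) * L := by rw [hq]; simp only [b]; group
    obtain ⟨i, hi, hfix⟩ := fix_of_top hr hb (by
        rw [show prodW uEl (topW (topReps.getD r 0)) = q from rfl, hp]
        simpa [h3, mul_assoc] using (conj_pow (a := L⁻¹) (b := p * t) (i := 3)))
      (by
        rw [show prodW uEl (topW (topReps.getD r 0)) = q from rfl, hp]
        intro hh
        refine h1 ?_
        have := congrArg (fun z => L * z * L⁻¹) hh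
        simpa [mul_assoc] using this)
    rw [show prodW uEl (topW (topReps.getD r 0)) = q from rfl, hp] at hfix
    have hL : L ∈ subTri := uProd_tri w
    have hx' : p * t ∈ subTri := mul_mem (uProd_tri _) (even_le_tri (uSub_even _ ht))
    refine ⟨move L i, move_lt hi, ?_⟩
    rw [← move_mul hx' hL hi, show p * t * L = L * (L⁻¹ * (p * t) * L) by group,
      move_mul hL (mul_mem (mul_mem (inv_mem hL) hx') hL) hi, hfix]

/-- Every element of order three fixes one of the points. -/
theorem order_three_fix {x : Fi23} (hx : x ∈ subEven) (h3 : x ^ 3 = 1) (h1 : x ≠ 1) :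
    ∃ i < 3240, move x i = i := by
  classical
  have : Fact (Nat.Prime 3) := ⟨Nat.prime_three⟩
  have hU : Nat.card ↥((uSub 0).subgroupOf subEven) = 3 ^ (Nat.card ↥subEven).factorization 3 := by
    rw [Nat.card_congr (Subgroup.subgroupOfEquivOfLe (uSub_even 0)).toEquiv, uSub_card 12 0 rfl,
      subNine_facts.1]
    congr 1
    rw [show (4952179814400 : ℕ) = 3 ^ 12 * 9318400 by norm_num, Nat.factorization_mul (by norm_num) (by norm_num),
      Finsupp.add_apply, Nat.Prime.factorization_pow Nat.prime_three, Finsupp.single_eq_same,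
      Nat.factorization_eq_zero_of_not_dvd (by norm_num), add_zero]
  set P := Sylow.ofCard _ hU with hP
  have hp : IsPGroup 3 ↥(Subgroup.zpowers (⟨x, hx⟩ : ↥subEven)) := by
    refine IsPGroup.of_card (n := 1) ?_
    rw [Nat.card_zpowers, pow_one]
    exact orderOf_eq_prime (Subtype.ext h3) fun h => h1 (congrArg Subtype.val h)
  obtain ⟨S, hS⟩ := hp.exists_le_sylow
  obtain ⟨g, hg⟩ := MulAction.exists_smul_eq ↥subEven S P
  have hmem : g * ⟨x, hx⟩ * g⁻¹ ∈ (P : Subgroup ↥subEven) := by
    rw [← hg, Sylow.coe_subgroup_smul, ← MulAut.conj_apply]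
    exact Subgroup.smul_mem_pointwise_smul _ _ _ (hS (Subgroup.mem_zpowers _))
  rw [hP, Sylow.coe_ofCard, Subgroup.mem_subgroupOf] at hmem
  obtain ⟨i, hi, e⟩ := sylow_fix hmem (by
      push_cast
      rw [conj_pow, h3, mul_one, mul_inv_cancel])
    (by
      push_cast
      exact fun h => h1 (conj_eq_one_iff.mp h))
  push_cast at e
  have hg' : (g : Fi23) ∈ subTri := even_le_tri g.2
  have hx' : x ∈ subTri := even_le_tri hx
  refine ⟨move (g : Fi23)⁻¹ i, move_lt hi, ?_⟩
  rw [← move_mul hx' (inv_mem hg') hi,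
    show x * (g : Fi23)⁻¹ = (g : Fi23)⁻¹ * ((g : Fi23) * x * (g : Fi23)⁻¹) by group,
    move_mul (inv_mem hg') (mul_mem (mul_mem hg' hx') (inv_mem hg')) hi, e]

end CfsgLib.OEightThree
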